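import Groth.Agent.ModTensor.KFlat
import Mathlib.Algebra.Homology.BifunctorAssociator
import Mathlib.CategoryTheory.Functor.Trifunctor

/-!
# Associativity of the tensor product of sheaves of modules and of their complexes
-/

set_option linter.style.haveILetI false

universe u

open CategoryTheory CategoryTheory.Limits Opposite MonoidalCategory

namespace Groth.Agent.ModTensor

variable {C : Type u} [SmallCategory C] {J : GrothendieckTopology C} {O : Sheaf J CommRingCat.{u}}

/-- The associator, for presheaves. -/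
noncomputable def assocSh (P Q N : P₀ O) :
    (sh O).obj ((fg O).obj ((sh O).obj (P ⊗ Q)) ⊗ N) ≅ (sh O).obj (P ⊗ (fg O).obj ((sh O).obj (Q ⊗ N))) :=
  (unitWhiskerIso (P ⊗ Q) N).symm ≪≫ (sh O).mapIso (α_ P Q N) ≪≫
    @asIso _ _ _ _ ((sh O).map (P ◁ (shAdj O).unit.app (Q ⊗ N))) (isIso_sh_map_whiskerLeft_unit _ _)

lemma assocSh_naturality {P Q N P' Q' N' : P₀ O} (f : P ⟶ P') (g : Q ⟶ Q') (h : N ⟶ N') :
    (sh O).map ((fg O).map ((sh O).map (f ⊗ₘ g)) ⊗ₘ h) ≫ (assocSh P' Q' N').hom =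
      (assocSh P Q N).hom ≫ (sh O).map (f ⊗ₘ (fg O).map ((sh O).map (g ⊗ₘ h))) := by
  let η := (shAdj O).unit
  have h1 : η.app (P ⊗ Q) ▷ N ≫ ((fg O).map ((sh O).map (f ⊗ₘ g)) ⊗ₘ h) =
      ((f ⊗ₘ g) ⊗ₘ h) ≫ η.app (P' ⊗ Q') ▷ N' := by
    have e : η.app (P ⊗ Q) ≫ (fg O).map ((sh O).map (f ⊗ₘ g)) = (f ⊗ₘ g) ≫ η.app (P' ⊗ Q') :=
      (η.naturality (f ⊗ₘ g)).symm
    rw [← tensorHom_id, ← tensorHom_id, tensorHom_comp_tensorHom, tensorHom_comp_tensorHom,
      Category.id_comp, Category.comp_id]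
    exact congrArg (fun t => t ⊗ₘ h) e
  have h2 : P ◁ η.app (Q ⊗ N) ≫ (f ⊗ₘ (fg O).map ((sh O).map (g ⊗ₘ h))) =
      (f ⊗ₘ (g ⊗ₘ h)) ≫ P' ◁ η.app (Q' ⊗ N') := by
    have e : η.app (Q ⊗ N) ≫ (fg O).map ((sh O).map (g ⊗ₘ h)) = (g ⊗ₘ h) ≫ η.app (Q' ⊗ N') :=
      (η.naturality (g ⊗ₘ h)).symm
    rw [← id_tensorHom, ← id_tensorHom, tensorHom_comp_tensorHom, tensorHom_comp_tensorHom,
      Category.id_comp, Category.comp_id]
    exact congrArg (fun t => f ⊗ₘ t) e
  refine (cancel_epi (unitWhiskerIso (P ⊗ Q) N).hom).1 ?_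
  simp only [assocSh, unitWhiskerIso, Iso.trans_hom, Iso.symm_hom, asIso_hom, asIso_inv, Functor.mapIso_hom,
    IsIso.hom_inv_id_assoc, Category.assoc]
  rw [← Functor.map_comp_assoc, h1, Functor.map_comp_assoc, IsIso.hom_inv_id_assoc, ← Functor.map_comp,
    ← Functor.map_comp, ← Functor.map_comp, ← Functor.map_comp, h2, associator_naturality_assoc]

variable (O)

/-- The associator of the tensor product of sheaves of modules. -/
noncomputable def tensorAssoc :
    bifunctorComp₁₂ (ModSite.tensorBi O) (ModSite.tensorBi O) ≅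
      bifunctorComp₂₃ (ModSite.tensorBi O) (ModSite.tensorBi O) :=
  NatIso.ofComponents (fun X => NatIso.ofComponents (fun Y => NatIso.ofComponents
    (fun Z => assocSh ((fg O).obj X) ((fg O).obj Y) ((fg O).obj Z))
    (fun {Z Z'} h => by
      have e := assocSh_naturality (𝟙 ((fg O).obj X)) (𝟙 ((fg O).obj Y)) ((fg O).map h)
      rw [id_tensorHom_id, CategoryTheory.Functor.map_id, CategoryTheory.Functor.map_id, id_tensorHom,
        id_tensorHom, id_tensorHom] at e
      exact e))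
    (fun {Y Y'} g => by
      ext Z : 2
      have e := assocSh_naturality (𝟙 ((fg O).obj X)) ((fg O).map g) (𝟙 ((fg O).obj Z))
      rw [id_tensorHom, tensorHom_id, tensorHom_id, id_tensorHom] at e
      exact e))
    (fun {X X'} f => by
      ext Y Z : 4
      have e := assocSh_naturality ((fg O).map f) (𝟙 ((fg O).obj Y)) (𝟙 ((fg O).obj Z))
      rw [tensorHom_id, tensorHom_id, id_tensorHom_id, CategoryTheory.Functor.map_id,
        CategoryTheory.Functor.map_id, tensorHom_id] at e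
      exact e)

variable {O}

/-- Tensor products of K-flat complexes are K-flat. -/
theorem isKFlat_tensor {K L : CochainComplex (ModSite.Mod O) ℤ} (hK : ModSite.IsKFlat K)
    (hL : ModSite.IsKFlat L) : ModSite.IsKFlat (((ModSite.tensorCx O).obj K).obj L) := by
  intro M hM i
  have h : ∀ i, IsZero ((((ModSite.tensorCx O).obj (((ModSite.tensorCx O).obj M).obj K)).obj L).homology i) :=
    hL _ (hK M hM)
  haveI : ∀ N : ModSite.Mod O, PreservesColimitsOfSize.{0, 0} ((ModSite.tensorBi O).obj N) := fun N =>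
    preservesColimitsOfSize_shrink _
  haveI : ∀ N : ModSite.Mod O, PreservesColimitsOfSize.{0, 0} ((ModSite.tensorBi O).flip.obj N) := fun N =>
    preservesColimitsOfSize_shrink _
  haveI : HomologicalComplex.HasGoodTrifunctor₁₂Obj (ModSite.tensorBi O) (ModSite.tensorBi O) M K L
      (ComplexShape.up ℤ) (ComplexShape.up ℤ) := fun _ _ => inferInstance
  haveI : HomologicalComplex.HasGoodTrifunctor₂₃Obj (ModSite.tensorBi O) (ModSite.tensorBi O) M K L
      (ComplexShape.up ℤ) (ComplexShape.up ℤ) (ComplexShape.up ℤ) := fun _ _ => inferInstance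
  exact (h i).of_iso ((HomologicalComplex.homologyFunctor (ModSite.Mod O) _ i).mapIso
    (HomologicalComplex.mapBifunctorAssociator (tensorAssoc O) M K L (ComplexShape.up ℤ) (ComplexShape.up ℤ)
      (ComplexShape.up ℤ))).symm

end Groth.Agent.ModTensor
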