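import Groth.Agent.ModTensor.Colimits
import Groth.Agent.SiteBase.ModGroth
import Groth.Agent.SiteBase.ModKill
import Mathlib.CategoryTheory.Adjunction.AdjointFunctorTheorems
import Mathlib.CategoryTheory.Abelian.Subobject
import Mathlib.CategoryTheory.Abelian.GrothendieckCategory.Subobject
import Mathlib.CategoryTheory.Adjunction.Additive

/-!
# The internal hom of sheaves of modules, and its acyclicity into injectives
-/

universe u

open CategoryTheory CategoryTheory.Limits Opposite MonoidalCategory Simplicial AlgebraicTopology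

namespace Groth.Agent.ModTensor

variable {C : Type u} [SmallCategory C] {J : GrothendieckTopology C} {O : Sheaf J CommRingCat.{u}}

/-- Tensoring with a sheaf of modules has a right adjoint. -/
theorem hasSheafHom (N : ModSite.Mod O) : ModSite.HasSheafHom N := by
  have : WellPowered.{u} (ModSite.Mod O) := inferInstance
  exact isLeftAdjoint_of_preservesColimits_of_isSeparating
    (P := ObjectProperty.singleton (separator (ModSite.Mod O))) (isSeparator_separator _) _

variable (F : ModSite.Mod O)

/-- Free presheaves of modules. -/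
noncomputable abbrev freeP (O : Sheaf J CommRingCat.{u}) : (Cᵒᵖ ⥤ Type u) ⥤ P₀ O :=
  PresheafOfModules.free (O.obj ⋙ forget₂ CommRingCat.{u} RingCat.{u})

/-- Free modules on sheaves of sets, tensored with `F`. -/
noncomputable abbrev freeTensor : Sheaf J (Type u) ⥤ ModSite.Mod O :=
  SiteBase.freeModSh (ModSite.ringSh O) ⋙ (ModSite.tensorBi O).flip.obj F

/-- The free presheaves of modules tensored with `F`. -/
noncomputable abbrev freeTensorPre : Sheaf J (Type u) ⥤ P₀ O :=
  sheafToPresheaf J (Type u) ⋙
    freeP O ⋙ tensorRight ((fg O).obj F)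

/-- The free modules tensored with `F` are sheafified presheaf tensor products. -/
noncomputable def freeTensorIso : freeTensor F ≅ freeTensorPre F ⋙ sh O :=
  Functor.isoWhiskerLeft (sheafToPresheaf J (Type u) ⋙
    freeP O) (shTensorRightIso F)

variable {X : SimplicialObject.Augmented (Sheaf J (Type u))}

/-- The chain of free modules on a simplicial sheaf of sets, tensored with `F`. -/
noncomputable abbrev tensorChain (X : SimplicialObject.Augmented (Sheaf J (Type u))) :
    ChainComplex (ModSite.Mod O) ℕ :=
  AlternatingFaceMapComplex.obj (((SimplicialObject.whiskering _ _).obj (freeTensor F)).obj X.left)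

theorem exactAt_tensorChain (hX : SiteBase.SheafNerveLike X) (n : ℕ) :
    (tensorChain F X).ExactAt (n + 1) := by
  let G := freeTensorPre F ⋙ PresheafOfModules.toPresheaf _
  let P := AlternatingFaceMapComplex.obj (((SimplicialObject.whiskering _ _).obj G).obj X.left)
  have hP : (P.sc (n + 1)).Exact := SiteBase.exact_of_evaluation_op _ fun U => by
    let Φ : Type u ⥤ AddCommGrpCat.{u} := ModuleCat.free (O.obj.obj (op U)) ⋙
      tensorRight (C := ModuleCat.{u} (O.obj.obj (op U))) (((fg O).obj F).obj (op U)) ⋙
        forget₂ _ AddCommGrpCat.{u}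
    have h := (hX.isNerveLike_augAt U).exactAt_mapChain Φ n
    have e : (((evaluation Cᵒᵖ AddCommGrpCat.{u}).obj (op U)).mapHomologicalComplex _).obj P =
        AlternatingFaceMapComplex.obj (((SimplicialObject.whiskering _ _).obj Φ).obj
          (SiteBase.augAt X U).left) :=
      Functor.congr_obj (map_alternatingFaceMapComplex ((evaluation Cᵒᵖ AddCommGrpCat.{u}).obj (op U)))
        (((SimplicialObject.whiskering _ _).obj G).obj X.left)
    rw [← e] at h
    exact h
  have hS : (((presheafToSheaf J AddCommGrpCat.{u}).mapHomologicalComplex _).obj P).ExactAt (n + 1) :=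
    hP.map (presheafToSheaf J AddCommGrpCat.{u})
  have e : ((SheafOfModules.toSheaf (ModSite.ringSh O)).mapHomologicalComplex _).obj
      (AlternatingFaceMapComplex.obj
        (((SimplicialObject.whiskering _ _).obj (freeTensorPre F ⋙ sh O)).obj X.left)) =
      ((presheafToSheaf J AddCommGrpCat.{u}).mapHomologicalComplex _).obj P :=
    (Functor.congr_obj (map_alternatingFaceMapComplex (SheafOfModules.toSheaf (ModSite.ringSh O)))
      (((SimplicialObject.whiskering _ _).obj (freeTensorPre F ⋙ sh O)).obj X.left)).trans
      (Functor.congr_obj (map_alternatingFaceMapComplex (presheafToSheaf J AddCommGrpCat.{u}))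
        (((SimplicialObject.whiskering _ _).obj G).obj X.left)).symm
  rw [← e] at hS
  have h' := (HomologicalComplex.sc (AlternatingFaceMapComplex.obj
    (((SimplicialObject.whiskering _ _).obj (freeTensorPre F ⋙ sh O)).obj X.left))
      (n + 1)).exact_map_iff_of_faithful
    (SheafOfModules.toSheaf (ModSite.ringSh O))
  have hT : HomologicalComplex.ExactAt (AlternatingFaceMapComplex.obj
    (((SimplicialObject.whiskering _ _).obj (freeTensorPre F ⋙ sh O)).obj X.left)) (n + 1) := h'.1 hS
  exact HomologicalComplex.ExactAt.of_iso hT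
    ((alternatingFaceMapComplex _).mapIso
      (Functor.isoWhiskerLeft X.left (freeTensorIso F).symm))

variable [ModSite.HasSheafHom F]

theorem cechKill_sheafHom_injective (hX : SiteBase.SheafNerveLike X) (G : ModSite.Mod O) [Injective G] :
    SiteBase.CechKill (ModSite.toAb ((ModSite.sheafHom F).obj G)) X := by
  let adj := ModSite.sheafHomAdj F
  let e := fun n : ℕ =>
    (adj.homAddEquiv ((SiteBase.freeModSh (ModSite.ringSh O)).obj (X.left.obj (op ⦋n⦌))) G).trans
      (SiteBase.freeModAddEquiv (X.left.obj (op ⦋n⦌)) ((ModSite.sheafHom F).obj G))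
  have hd : ∀ (n : ℕ) (b : (tensorChain F X).X n ⟶ G),
      e (n + 1) ((tensorChain F X).d (n + 1) n ≫ b) = (SiteBase.freeShChain X).d (n + 1) n ≫ e n b := by
    intro n b
    rw [AlternatingFaceMapComplex.obj_d_eq, AlternatingFaceMapComplex.obj_d_eq]
    refine (congrArg (e (n + 1)) (Preadditive.sum_comp (C := ModSite.Mod O) _ _ b)).trans ?_
    refine (map_sum _ _ _).trans ?_
    refine Eq.trans ?_ (Preadditive.sum_comp (C := Sheaf J AddCommGrpCat.{u}) _ _ (e n b)).symm
    refine Finset.sum_congr rfl fun i _ => ?_
    refine (congrArg (e (n + 1)) (Preadditive.zsmul_comp (C := ModSite.Mod O) _ _ _)).trans ?_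
    refine (map_zsmul _ _ _).trans ?_
    refine Eq.trans ?_ (Preadditive.zsmul_comp (C := Sheaf J AddCommGrpCat.{u}) _ _ _).symm
    refine congrArg (_ • ·) ?_
    refine Eq.trans ?_ (SiteBase.freeModEquiv_naturality (X.left.δ i) (adj.homEquiv _ _ b))
    exact congrArg (SiteBase.freeModEquiv (X.left.obj (op ⦋n + 1⦌)) ((ModSite.sheafHom F).obj G))
      (adj.homEquiv_naturality_left ((SiteBase.freeModSh (ModSite.ringSh O)).map (X.left.δ i)) b)
  intro n w hw
  obtain ⟨v, rfl⟩ := (e (n + 1)).surjective w
  have h := exactAt_tensorChain F hX n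
  rw [HomologicalComplex.exactAt_iff' _ (n + 2) (n + 1) n (by simp) (by simp)] at h
  have hv : (tensorChain F X).d (n + 2) (n + 1) ≫ v = 0 :=
    (e (n + 2)).injective (((hd (n + 1) v).trans hw).trans (map_zero _).symm)
  exact ⟨e n (h.descToInjective v hv), (hd n _).symm.trans (congrArg _ (h.comp_descToInjective v hv))⟩

/-- The internal hom into an injective sheaf of modules is totally acyclic. -/
theorem isTotallyAcyclic_sheafHom_injective (G : ModSite.Mod O) [Injective G] :
    CohCx.IsTotallyAcyclic (ModSite.toAb ((ModSite.sheafHom F).obj G)) :=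
  SiteBase.isTotallyAcyclic_of_cechKill _ fun _ _ f _ =>
    cechKill_sheafHom_injective F (SiteBase.sheafNerveLike_nerve f) G

end Groth.Agent.ModTensor
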