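import Groth.Agent.ModTensor.Flat
import Mathlib.CategoryTheory.Yoneda
import Mathlib.CategoryTheory.Generator.Basic

/-!
# The modules `j_{U!} O_U`
-/

universe u

open CategoryTheory CategoryTheory.Limits Opposite

namespace Groth.Agent.ModTensor

variable {C : Type u} [SmallCategory C] {J : GrothendieckTopology C} (O : Sheaf J CommRingCat.{u})

/-- Sections over an object, as sets. -/
noncomputable abbrev secFunctor (U : C) : ModSite.Mod O ⥤ Type u :=
  fg O ⋙ (PresheafOfModules.toPresheaf _ ⋙
    (Functor.whiskeringRight _ _ _).obj (CategoryTheory.forget Ab.{u})) ⋙ (evaluation _ _).obj (op U)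

/-- Sections of a restriction are the sections over the object. -/
noncomputable def restrSectionsEquiv (U : C) (M : ModSite.Mod O) :
    ((ModSite.restr O U).obj M).sections ≃ (secFunctor O U).obj M where
  toFun s := s.val (op (Over.mk (𝟙 U)))
  invFun a := ⟨fun V => rs ((fg O).obj M) V.unop.hom.op a, fun {V W} g =>
    (rs_comp (P := (fg O).obj M) V.unop.hom.op g.unop.left.op a).symm.trans
      (congrArg (fun t => rs ((fg O).obj M) t a) ((op_comp).symm.trans (congrArg Quiver.Hom.op (Over.w g.unop))))⟩
  left_inv s := Subtype.ext <| funext fun V => by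
    exact s.property (Over.homMk V.unop.hom : V.unop ⟶ Over.mk (𝟙 U)).op
  right_inv a := by
    exact rs_id (R := O.obj) (P := (fg O).obj M) a

lemma restrSectionsEquiv_map {U : C} {M N : ModSite.Mod O} (φ : M ⟶ N)
    (s : ((ModSite.restr O U).obj M).sections) :
    restrSectionsEquiv O U N (SheafOfModules.sectionsMap ((ModSite.restr O U).map φ) s) =
      (secFunctor O U).map φ (restrSectionsEquiv O U M s) := rfl

/-- `j_{U!} O_U` corepresents sections over `U`. -/
noncomputable def freeOnCorepr (U : C) : (secFunctor O U).CorepresentableBy (ModSite.freeOn O U) where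
  homEquiv {M} := (((ModSite.extZeroAdj O U).homEquiv _ M).trans
    ((ModSite.restr O U).obj M).unitHomEquiv).trans (restrSectionsEquiv O U M)
  homEquiv_comp {M N} g f := by
    refine Eq.trans ?_ (restrSectionsEquiv_map O (U := U) g
      (((ModSite.restr O U).obj M).unitHomEquiv ((ModSite.extZeroAdj O U).homEquiv _ M f)))
    show restrSectionsEquiv O U N (((ModSite.restr O U).obj N).unitHomEquiv
      ((ModSite.extZeroAdj O U).homEquiv _ N (f ≫ g))) = _
    refine congrArg (restrSectionsEquiv O U N) ?_
    refine (congrArg ((ModSite.restr O U).obj N).unitHomEquiv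
      ((ModSite.extZeroAdj O U).homEquiv_naturality_right f g)).trans ?_
    exact (SheafOfModules.unitHomEquiv_comp_apply _ _).trans rfl

/-- The free presheaf of modules on a representable, sheafified. -/
noncomputable abbrev freeYon (U : C) : ModSite.Mod O :=
  (sh O).obj ((PresheafOfModules.free (O.obj ⋙ forget₂ CommRingCat.{u} RingCat.{u})).obj (yoneda.obj U))

/-- It corepresents sections over `U`. -/
noncomputable def freeYonCorepr (U : C) : (secFunctor O U).CorepresentableBy (freeYon O U) where
  homEquiv {M} := (((PresheafOfModules.freeAdjunction _).comp (shAdj O)).homEquiv (yoneda.obj U) M).trans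
    yonedaEquiv
  homEquiv_comp {M N} g f := by
    refine (congrArg yonedaEquiv
      (((PresheafOfModules.freeAdjunction _).comp (shAdj O)).homEquiv_naturality_right f g)).trans ?_
    exact yonedaEquiv_comp _ _

/-- `j_{U!} O_U` is the sheafified free presheaf of modules on `U`. -/
noncomputable def freeOnIso (U : C) : ModSite.freeOn O U ≅ freeYon O U :=
  (freeOnCorepr O U).uniqueUpToIso (freeYonCorepr O U)

/-- `j_{U!} O_U` is flat. -/
theorem isFlat_freeOn (U : C) : ModSite.IsFlat (ModSite.freeOn O U) :=
  isFlat_of_iso (freeOnIso O U).symm (isFlat_sh_free _)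

variable {O}

/-- Inverse images of `j_{U!} O_U`. -/
theorem nonempty_pull_freeOn_iso {D : Type u} [SmallCategory D] {K : GrothendieckTopology D}
    {O_D : Sheaf K CommRingCat.{u}} (f : ModSite.RMor O O_D) (X : D) :
    Nonempty (f.pull.obj (ModSite.freeOn O_D X) ≅ ModSite.freeOn O (f.fn.obj X)) :=
  ⟨Functor.CorepresentableBy.uniqueUpToIso
    ({ homEquiv := fun {N} => (f.adj.homEquiv (ModSite.freeOn O_D X) N).trans
        ((freeOnCorepr O_D X).homEquiv (Y := f.push.obj N))
       homEquiv_comp := fun {M N} g h =>
        (congrArg (freeOnCorepr O_D X).homEquiv (f.adj.homEquiv_naturality_right h g)).trans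
          ((freeOnCorepr O_D X).homEquiv_comp _ _) } :
      (secFunctor O (f.fn.obj X)).CorepresentableBy (f.pull.obj (ModSite.freeOn O_D X)))
    (freeOnCorepr O (f.fn.obj X))⟩

/-- The `j_{U!} O_U` for `U` in a covering collection separate modules. -/
theorem isSeparating_freeOn (G : Set C)
    (hG : ∀ X : C, ∃ (ι : Type u) (Y : ι → C) (f : ∀ i, Y i ⟶ X), Sieve.ofArrows Y f ∈ J X ∧ ∀ i, Y i ∈ G) :
    (ObjectProperty.ofObj fun X : G => ModSite.freeOn O (X : C)).IsSeparating := by
  intro M N φ ψ h
  apply (fg O).map_injective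
  refine PresheafOfModules.hom_ext fun X => ModuleCat.hom_ext (LinearMap.ext fun m => ?_)
  obtain ⟨ι, Yf, f, hf, hY⟩ := hG X.unop
  refine eq_of_locally (J := J) (H := (fg O).obj N) N.isSheaf (U := X.unop) hf fun V g hg => ?_
  obtain ⟨W, a, b, ⟨i⟩, rfl⟩ := hg
  rw [op_comp, rs_comp, rs_comp, ← app_rs ((fg O).map φ), ← app_rs ((fg O).map ψ)]
  refine congrArg (rs ((fg O).obj N) a.op) ?_
  have := congrArg (freeOnCorepr O (Yf i)).homEquiv
    (h _ (ObjectProperty.ofObj_apply (fun X : G => ModSite.freeOn O (X : C)) ⟨Yf i, hY i⟩)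
      ((freeOnCorepr O (Yf i)).homEquiv.symm (rs ((fg O).obj M) (f i).op m)))
  rw [Functor.CorepresentableBy.homEquiv_comp, Functor.CorepresentableBy.homEquiv_comp] at this
  have e := (freeOnCorepr O (Yf i)).homEquiv.apply_symm_apply
    (rs ((fg O).obj M) (f i).op m : (secFunctor O (Yf i)).obj M)
  exact ((congrArg ((secFunctor O (Yf i)).map φ) e).symm.trans this).trans
    (congrArg ((secFunctor O (Yf i)).map ψ) e)

/-- They also detect isomorphisms. -/
theorem isDetecting_freeOn (G : Set C)
    (hG : ∀ X : C, ∃ (ι : Type u) (Y : ι → C) (f : ∀ i, Y i ⟶ X), Sieve.ofArrows Y f ∈ J X ∧ ∀ i, Y i ∈ G) :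
    (ObjectProperty.ofObj fun X : G => ModSite.freeOn O (X : C)).IsDetecting :=
  (isSeparating_freeOn G hG).isDetecting

/-- The forgetful functor to abelian sheaves preserves colimits. -/
theorem preservesColimits_toSheaf (O : Sheaf J CommRingCat.{u}) :
    PreservesColimitsOfSize.{u, u} (SheafOfModules.toSheaf.{u} (ModSite.ringSh O)) where
  preservesColimitsOfShape {I} _ := ⟨fun {K} => by
    have : PreservesColimitsOfShape I (sh O) := (shAdj O).leftAdjoint_preservesColimits.1
    have : PreservesColimitsOfShape I (presheafToSheaf J AddCommGrpCat.{u}) :=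
      (sheafificationAdjunction J AddCommGrpCat.{u}).leftAdjoint_preservesColimits.1
    have : PreservesColimitsOfShape I (PresheafOfModules.toPresheaf.{u} (ModSite.ringSh O).obj) :=
      PresheafOfModules.toPresheaf_preservesColimitsOfShape _ _
    have : PreservesColimitsOfShape I (PresheafOfModules.toPresheaf.{u} (ModSite.ringSh O).obj ⋙
        presheafToSheaf J AddCommGrpCat.{u}) := comp_preservesColimitsOfShape _ _
    have : PreservesColimitsOfShape I (sh O ⋙ SheafOfModules.toSheaf (ModSite.ringSh O)) :=
      @preservesColimitsOfShape_of_natIso _ _ _ _ _ _ _ _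
        (PresheafOfModules.sheafificationCompToSheaf (𝟙 (ModSite.ringSh O).obj)).symm (by assumption)
    let L := K ⋙ fg O
    have : PreservesColimit (L ⋙ sh O) (SheafOfModules.toSheaf (ModSite.ringSh O)) :=
      preservesColimit_of_preserves_colimit_cocone (isColimitOfPreserves (sh O) (colimit.isColimit L))
        (isColimitOfPreserves (sh O ⋙ SheafOfModules.toSheaf (ModSite.ringSh O)) (colimit.isColimit L))
    exact preservesColimit_of_iso_diagram (SheafOfModules.toSheaf (ModSite.ringSh O))
      (K₁ := L ⋙ sh O) (Functor.associator K (fg O) (sh O) ≪≫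
        Functor.isoWhiskerLeft K (counitIso O) ≪≫ Functor.rightUnitor K)⟩

end Groth.Agent.ModTensor
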