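import Groth.Agent.KFlatLib.KFlat
import Mathlib.CategoryTheory.Abelian.Refinements
import Mathlib.CategoryTheory.Limits.Shapes.BinaryBiproducts

/-!
# Flatness for right exact bifunctors with enough flat objects
-/

universe v u

open CategoryTheory CategoryTheory.Limits

namespace Groth.Agent.ModTensor

variable {C : Type u} [Category.{v} C] [Abelian C] (T : C ⥤ C ⥤ C) [T.Additive]
  [∀ X, (T.obj X).Additive]

/-- The bifunctor is right exact in both variables and has enough objects flat on either side. -/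
structure RightExactEnough : Prop where
  right : ∀ X, PreservesFiniteColimits (T.obj X)
  left : ∀ Y, PreservesFiniteColimits (T.flip.obj Y)
  enough : ∀ X : C, ∃ (P : C) (π : P ⟶ X), Epi π ∧
    ∀ ⦃A B : C⦄ (f : A ⟶ B), Mono f → Mono ((T.obj P).map f)

variable {T}

lemma mono_of_chase {K₁ K₂ K₃ P₁ P₂ P₃ X₁ X₂ : C} {fK : K₁ ⟶ K₂} {gK : K₂ ⟶ K₃} {fP : P₁ ⟶ P₂}
    {gP : P₂ ⟶ P₃} {fX : X₁ ⟶ X₂} {i₁ : K₁ ⟶ P₁} {i₂ : K₂ ⟶ P₂} {i₃ : K₃ ⟶ P₃} {π₁ : P₁ ⟶ X₁}
    {π₂ : P₂ ⟶ X₂} (cf : fK ≫ i₂ = i₁ ≫ fP) (cg : gK ≫ i₃ = i₂ ≫ gP) (cp : fP ≫ π₂ = π₁ ≫ fX)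
    (zP : fP ≫ gP = 0) (zK : fK ≫ gK = 0) (hK : (ShortComplex.mk fK gK zK).Exact) (z₂ : i₂ ≫ π₂ = 0)
    (h₂ : (ShortComplex.mk i₂ π₂ z₂).Exact) (z₁ : i₁ ≫ π₁ = 0) [Epi π₁] [Mono fP] [Mono i₃] :
    Mono fX := by
  refine (Preadditive.mono_iff_cancel_zero _).2 fun {Z} a ha => ?_
  obtain ⟨Z₁, p₁, _, y, hy⟩ := surjective_up_to_refinements_of_epi π₁ a
  have h1 : (y ≫ fP) ≫ π₂ = 0 := by
    rw [Category.assoc, cp, ← Category.assoc, ← hy, Category.assoc, ha, comp_zero]
  obtain ⟨Z₂, p₂, _, z, hz⟩ := h₂.exact_up_to_refinements (y ≫ fP) h1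
  dsimp at z hz
  have h2 : z ≫ gK = 0 := by
    rw [← cancel_mono i₃, zero_comp, Category.assoc, cg, ← Category.assoc, ← hz]
    simp [zP]
  obtain ⟨Z₃, p₃, _, w, hw⟩ := h₃' hK z h2
  have h3 : p₃ ≫ p₂ ≫ y = w ≫ i₁ := by
    rw [← cancel_mono fP, Category.assoc, Category.assoc, hz, ← Category.assoc, hw, Category.assoc,
      Category.assoc, cf]
  have h4 : p₃ ≫ p₂ ≫ p₁ ≫ a = 0 := by
    rw [hy, ← Category.assoc p₂, ← Category.assoc p₃, h3, Category.assoc, z₁, comp_zero]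
  rw [← cancel_epi p₁, ← cancel_epi p₂, ← cancel_epi p₃, h4, comp_zero, comp_zero, comp_zero]
where
  h₃' {A B D : C} {f : A ⟶ B} {g : B ⟶ D} {w : f ≫ g = 0} (h : (ShortComplex.mk f g w).Exact)
      {Z : C} (z : Z ⟶ B) (hz : z ≫ g = 0) :
      ∃ (Z' : C) (p : Z' ⟶ Z) (_ : Epi p) (x : Z' ⟶ A), p ≫ z = x ≫ f :=
    h.exact_up_to_refinements z hz

lemma mono_of_chase' {A₁ A₂ A₃ B₁ B₂ B₃ : C} {fA : A₁ ⟶ A₂} {gA : A₂ ⟶ A₃} {fB : B₁ ⟶ B₂}
    {gB : B₂ ⟶ B₃} {m₁ : A₁ ⟶ B₁} {m₂ : A₂ ⟶ B₂} {m₃ : A₃ ⟶ B₃} (cf : fA ≫ m₂ = m₁ ≫ fB)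
    (cg : gA ≫ m₃ = m₂ ≫ gB) (zA : fA ≫ gA = 0) (hA : (ShortComplex.mk fA gA zA).Exact)
    [Mono fB] [Mono m₁] [Mono m₃] : Mono m₂ := by
  refine (Preadditive.mono_iff_cancel_zero _).2 fun {Z} a ha => ?_
  have h0 : a ≫ gA = 0 := by
    rw [← cancel_mono m₃, zero_comp, Category.assoc, cg, reassoc_of% ha, zero_comp]
  obtain ⟨Z₁, p, _, w, hw⟩ := mono_of_chase.h₃' hA a h0
  have hw0 : w = 0 := by
    rw [← cancel_mono m₁, ← cancel_mono fB, zero_comp, zero_comp, Category.assoc, ← cf,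
      ← Category.assoc, ← hw, Category.assoc, ha, comp_zero]
  rw [← cancel_epi p, hw, hw0, zero_comp, comp_zero]

lemma mono_map_of_flatObj {F : C} (hF : KFlatLib.FlatObj T F) {A B : C} (f : A ⟶ B) [Mono f] :
    Mono ((T.flip.obj F).map f) :=
  (hF (ShortComplex.mk f (cokernel.π f) (cokernel.condition f))
    { exact := ShortComplex.exact_of_g_is_cokernel _ (cokernelIsCokernel f) }).mono_f

variable (hT : RightExactEnough T)
include hT

lemma exact_map_obj (X : C) {S : ShortComplex C} (hS : S.ShortExact) : (S.map (T.obj X)).Exact := by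
  have := hT.right X
  have := hS.epi_g
  exact hS.exact.map_of_epi_of_preservesCokernel (T.obj X) ‹_› inferInstance

lemma exact_map_flip (Y : C) {S : ShortComplex C} (hS : S.ShortExact) :
    (S.map (T.flip.obj Y)).Exact := by
  have := hT.left Y
  have := hS.epi_g
  exact hS.exact.map_of_epi_of_preservesCokernel (T.flip.obj Y) ‹_› inferInstance

lemma epi_map_obj (X : C) {A B : C} (f : A ⟶ B) [Epi f] : Epi ((T.obj X).map f) := by
  have := hT.right X
  exact (T.obj X).map_epi f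

lemma epi_map_flip (Y : C) {A B : C} (f : A ⟶ B) [Epi f] : Epi ((T.flip.obj Y).map f) := by
  have := hT.left Y
  exact (T.flip.obj Y).map_epi f

lemma flatObj_iff_mono (F : C) : KFlatLib.FlatObj T F ↔
    ∀ ⦃A B : C⦄ (f : A ⟶ B), Mono f → Mono ((T.flip.obj F).map f) := by
  refine ⟨fun h A B f _ => mono_map_of_flatObj h f, fun h S hS => ?_⟩
  exact ShortComplex.ShortExact.mk' (exact_map_flip hT F hS) (h S.f hS.mono_f)
    (@epi_map_flip _ _ _ T _ _ hT F _ _ S.g hS.epi_g)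

/-- A sequence with flat third term stays exact after tensoring. -/
theorem flatThird : KFlatLib.FlatThird T := by
  intro X S hS hF
  refine ShortComplex.ShortExact.mk' (exact_map_obj hT X hS) ?_
    (@epi_map_obj _ _ _ T _ _ hT X _ _ S.g hS.epi_g)
  obtain ⟨P, π, _, hP⟩ := hT.enough X
  let i : kernel π ⟶ P := kernel.ι π
  let R : ShortComplex C := ShortComplex.mk i π (kernel.condition π)
  have hR : R.ShortExact := { exact := ShortComplex.exact_of_f_is_kernel _ (kernelIsKernel π) }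
  have hi : Mono ((T.map i).app S.X₃) := mono_map_of_flatObj hF i
  have hPf : Mono ((T.obj P).map S.f) := hP S.f hS.mono_f
  have : Epi ((T.map π).app S.X₁) := epi_map_flip hT S.X₁ π
  exact @mono_of_chase _ _ _ _ _ _ _ _ _ _ _ _ _ _ _ _ _ _ _ _ _ ((T.map i).naturality S.f) ((T.map i).naturality S.g) ((T.map π).naturality S.f)
    (S.map (T.obj P)).zero (S.map (T.obj (kernel π))).zero (exact_map_obj hT _ hS)
    (R.map (T.flip.obj S.X₂)).zero (exact_map_flip hT S.X₂ hR) (R.map (T.flip.obj S.X₁)).zero ‹_› hPf hi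

/-- An extension of flat objects is flat. -/
theorem flatObj_X₂ {S : ShortComplex C} (hS : S.ShortExact) (h₁ : KFlatLib.FlatObj T S.X₁)
    (h₃ : KFlatLib.FlatObj T S.X₃) : KFlatLib.FlatObj T S.X₂ := by
  refine (flatObj_iff_mono hT _).2 fun A B f _ => ?_
  have := (flatThird hT B S hS h₃).mono_f
  have hm₁ : Mono ((T.map f).app S.X₁) := mono_map_of_flatObj h₁ f
  have hm₃ : Mono ((T.map f).app S.X₃) := mono_map_of_flatObj h₃ f
  have : Mono ((T.obj B).map S.f) := this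
  exact mono_of_chase' ((T.map f).naturality S.f) ((T.map f).naturality S.g) (S.map (T.obj A)).zero
    (exact_map_obj hT A hS)

/-- The kernel of an epimorphism of flat objects is flat. -/
theorem flatObj_X₁ {S : ShortComplex C} (hS : S.ShortExact) (h₂ : KFlatLib.FlatObj T S.X₂)
    (h₃ : KFlatLib.FlatObj T S.X₃) : KFlatLib.FlatObj T S.X₁ := by
  refine (flatObj_iff_mono hT _).2 fun A B f _ => ?_
  have hm : Mono ((T.obj A).map S.f) := (flatThird hT A S hS h₃).mono_f
  have hm₂ : Mono ((T.map f).app S.X₂) := mono_map_of_flatObj h₂ f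
  have : Mono ((T.map f).app S.X₁ ≫ (T.obj B).map S.f) := by
    rw [← (T.map f).naturality S.f]
    infer_instance
  exact mono_of_mono ((T.map f).app S.X₁) ((T.obj B).map S.f)

/-- Sums of two flat objects are flat. -/
theorem flatObj_biprod (X Y : C) (hX : KFlatLib.FlatObj T X) (hY : KFlatLib.FlatObj T Y) :
    KFlatLib.FlatObj T (X ⊞ Y) :=
  flatObj_X₂ hT (ShortComplex.Splitting.ofHasBinaryBiproduct X Y).shortExact hX hY

omit hT in
lemma flatObj_of_isZero {X : C} (hX : IsZero X) : KFlatLib.FlatObj T X := fun S _ => by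
  have hz : ∀ A : C, IsZero ((T.obj A).obj X) := fun A => Functor.map_isZero _ hX
  exact ShortComplex.ShortExact.mk' (ShortComplex.exact_of_isZero_X₂ _ (hz S.X₂))
    ⟨fun a b _ => (hz S.X₁).eq_of_tgt a b⟩ ⟨fun a b _ => (hz S.X₃).eq_of_src a b⟩

/-- Cycles of an acyclic complex of flat objects are flat, if tensoring keeps it acyclic. -/
theorem flatObj_cycles {K : CochainComplex C ℤ} (hac : K.Acyclic)
    (hA : ∀ A : C, (((T.obj A).mapHomologicalComplex (ComplexShape.up ℤ)).obj K).Acyclic)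
    (hfl : ∀ i, KFlatLib.FlatObj T (K.X i)) (n : ℤ) : KFlatLib.FlatObj T (K.cycles n) := by
  have hepi : Epi (K.toCycles (n - 1) n) := Preadditive.epi_of_cancel_zero _ fun g hg => by
    have hz : IsZero (K.homology n) := (HomologicalComplex.exactAt_iff_isZero_homology K n).1 (hac n)
    obtain ⟨l, hl⟩ := CokernelCofork.IsColimit.desc' (K.homologyIsCokernel (n - 1) n (by simp)) g hg
    rw [← hl, hz.eq_of_src l 0, comp_zero]
  have key : ∀ M : C, Mono ((T.obj M).map (K.iCycles n)) := fun M => by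
    have : Epi ((T.obj M).map (K.toCycles (n - 1) n)) := epi_map_obj hT M _
    have hex := (HomologicalComplex.exactAt_iff' _ (n - 2) (n - 1) n (by simp; omega) (by simp)).1
      (hA M (n - 1))
    refine (Preadditive.mono_iff_cancel_zero _).2 fun {Z} a ha => ?_
    obtain ⟨Z₁, p, _, y, hy⟩ := surjective_up_to_refinements_of_epi ((T.obj M).map (K.toCycles (n - 1) n)) a
    have h0 : y ≫ (T.obj M).map (K.d (n - 1) n) = 0 := by
      rw [← K.toCycles_i (n - 1) n, Functor.map_comp, ← Category.assoc, ← hy, Category.assoc, ha,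
        comp_zero]
    obtain ⟨Z₂, p₂, _, w, hw⟩ := hex.exact_up_to_refinements y h0
    have hw' : p₂ ≫ y = w ≫ (T.obj M).map (K.d (n - 2) (n - 1)) := hw
    have hz : K.d (n - 2) (n - 1) ≫ K.toCycles (n - 1) n = 0 := by
      rw [← cancel_mono (K.iCycles n), Category.assoc, K.toCycles_i, K.d_comp_d, zero_comp]
    rw [← cancel_epi p, ← cancel_epi p₂, hy, ← Category.assoc, hw', Category.assoc]
    refine (congrArg (w ≫ ·) ((T.obj M).map_comp _ _).symm).trans ?_
    rw [comp_zero, comp_zero, hz, Functor.map_zero]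
    exact comp_zero
  refine (flatObj_iff_mono hT _).2 fun A B f hf => ?_
  have := key A
  have := key B
  have hn : Mono ((T.map f).app (K.X n)) := mono_map_of_flatObj (hfl n) f
  have : Mono ((T.map f).app (K.cycles n) ≫ (T.obj B).map (K.iCycles n)) := by
    rw [← (T.map f).naturality]
    infer_instance
  exact mono_of_mono ((T.map f).app (K.cycles n)) ((T.obj B).map (K.iCycles n))

end Groth.Agent.ModTensor
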