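import Groth.Agent.ModTensor.Colimits
import Groth.Agent.ModTensor.Chase
import Groth.Agent.SiteBase.ModGroth
import Groth.Agent.KFlatLib.Resolution
import Groth.Prelude.Def_KFlatSite
import Mathlib.RingTheory.Flat.CategoryTheory
import Mathlib.Algebra.Category.ModuleCat.Presheaf.Free
import Mathlib.Algebra.Category.ModuleCat.Presheaf.Limits
import Mathlib.Algebra.Category.ModuleCat.Presheaf.EpiMono
import Mathlib.Algebra.Homology.ShortComplex.ExactFunctor

/-!
# Flat sheaves of modules on a ringed site
-/

universe w w' u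

open CategoryTheory CategoryTheory.Limits Opposite MonoidalCategory

namespace Groth.Agent.ModTensor

variable {C : Type u} [SmallCategory C] {J : GrothendieckTopology C}

/-- Sectionwise flat presheaves of modules have exact tensor products. -/
theorem preservesFiniteLimits_tensorRight_of_flat {R : Cᵒᵖ ⥤ CommRingCat.{u}} (P : PM R)
    (h : ∀ X : Cᵒᵖ, Module.Flat (R.obj X) (P.obj X)) : PreservesFiniteLimits (tensorRight P) :=
  ⟨fun I _ _ => ⟨fun {F} => ⟨fun {c} hc => ⟨PresheafOfModules.evaluationJointlyReflectsLimits _ _ fun X => by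
    let T : ModuleCat.{u} (R.obj X) ⥤ ModuleCat.{u} (R.obj X) :=
      tensorRight (C := ModuleCat.{u} (R.obj X)) (P.obj X)
    have hT : PreservesFiniteLimits T :=
      (@Module.Flat.iff_preservesFiniteLimits_tensorRight (R.obj X) _ (P.obj X)).1 (h X)
    have hI : PreservesLimitsOfShape I T := @PreservesFiniteLimits.preservesFiniteLimits _ _ _ _ T hT I _ _
    exact @isLimitOfPreserves _ _ _ _ _ _ _ T _ (isLimitOfPreserves (PresheafOfModules.evaluation _ X) hc)
      (@PreservesLimitsOfShape.preservesLimit _ _ _ _ _ _ T hI _)⟩⟩⟩⟩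

variable (O : Sheaf J CommRingCat.{u})

instance preservesFiniteColimits_tensorBi_flip (N : ModSite.Mod O) :
    PreservesFiniteColimits ((ModSite.tensorBi O).flip.obj N) := by
  have : PreservesColimitsOfSize.{0, 0} ((ModSite.tensorBi O).flip.obj N) :=
    preservesColimitsOfSize_shrink.{0, u, 0, u} _
  exact ⟨fun _ => inferInstance⟩

instance preservesFiniteColimits_tensorBi_obj (N : ModSite.Mod O) :
    PreservesFiniteColimits ((ModSite.tensorBi O).obj N) := by
  have : PreservesColimitsOfSize.{0, 0} ((ModSite.tensorBi O).obj N) :=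
    preservesColimitsOfSize_shrink.{0, u, 0, u} _
  exact ⟨fun _ => inferInstance⟩

instance preservesColimitsOfShape_small_tensorBi_obj (N : ModSite.Mod O) (I : Type) [SmallCategory I] :
    PreservesColimitsOfShape I ((ModSite.tensorBi O).obj N) := by
  have : PreservesColimitsOfSize.{0, 0} ((ModSite.tensorBi O).obj N) :=
    preservesColimitsOfSize_shrink.{0, u, 0, u} _
  infer_instance

instance preservesColimitsOfShape_small_tensorBi_flip (N : ModSite.Mod O) (I : Type) [SmallCategory I] :
    PreservesColimitsOfShape I ((ModSite.tensorBi O).flip.obj N) := by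
  have : PreservesColimitsOfSize.{0, 0} ((ModSite.tensorBi O).flip.obj N) :=
    preservesColimitsOfSize_shrink.{0, u, 0, u} _
  infer_instance

instance hasExactColimitsOfShape_discrete (S : Type) :
    HasExactColimitsOfShape (Discrete S) (ModSite.Mod O) := by
  haveI : AB4OfSize.{u} (ModSite.Mod O) := inferInstance
  haveI := AB4OfSize_shrink.{0, u} (ModSite.Mod O)
  infer_instance

instance hasExactColimitsOfShape_nat : HasExactColimitsOfShape ℕ (ModSite.Mod O) := by
  haveI := AB5OfSize_shrink.{0, 0, u, u} (ModSite.Mod O)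
  exact AB5OfSize.ofShape ℕ

variable {O}

theorem isFlat_iff_preservesFiniteLimits (F : ModSite.Mod O) :
    ModSite.IsFlat F ↔ PreservesFiniteLimits ((ModSite.tensorBi O).flip.obj F) :=
  ⟨fun h => h.1, fun h => ⟨h, inferInstance⟩⟩

/-- Flatness in terms of short exact sequences. -/
theorem isFlat_iff_flatObj (F : ModSite.Mod O) :
    ModSite.IsFlat F ↔ KFlatLib.FlatObj (ModSite.tensorBi O) F := by
  refine ⟨fun h S hS => ?_, fun h => ?_⟩
  · have := h.1
    exact hS.map_of_exact ((ModSite.tensorBi O).flip.obj F)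
  · rw [isFlat_iff_preservesFiniteLimits,
      Functor.preservesFiniteLimits_iff_forall_exact_map_and_mono]
    exact fun S hS => ⟨(h S hS).exact, (h S hS).mono_f⟩

theorem isFlat_iff_mono (F : ModSite.Mod O) :
    ModSite.IsFlat F ↔ ∀ ⦃A B : ModSite.Mod O⦄ (f : A ⟶ B), Mono f →
      Mono (((ModSite.tensorBi O).flip.obj F).map f) := by
  refine ⟨fun h A B f _ => mono_map_of_flatObj ((isFlat_iff_flatObj F).1 h) f, fun h => ?_⟩
  rw [isFlat_iff_flatObj]
  intro S hS
  have := hS.epi_g
  exact ShortComplex.ShortExact.mk'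
    (hS.exact.map_of_epi_of_preservesCokernel ((ModSite.tensorBi O).flip.obj F) ‹_› inferInstance)
    (h S.f hS.mono_f) (((ModSite.tensorBi O).flip.obj F).map_epi S.g)

theorem isFlat_of_iso {F G : ModSite.Mod O} (e : F ≅ G) (hF : ModSite.IsFlat F) : ModSite.IsFlat G :=
  (isFlat_iff_preservesFiniteLimits G).2
    (@preservesFiniteLimits_of_natIso _ _ _ _ _ _ ((ModSite.tensorBi O).flip.mapIso e) hF.1)

/-- Tensoring with a sheafified presheaf. -/
noncomputable def tensorShIso (P : P₀ O) :
    fg O ⋙ tensorRight P ⋙ sh O ≅ (ModSite.tensorBi O).flip.obj ((sh O).obj P) :=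
  NatIso.ofComponents (fun M => @asIso _ _ _ _ ((sh O).map ((fg O).obj M ◁ (shAdj O).unit.app P))
      (isIso_sh_map_whiskerLeft_unit _ _)) fun {M M'} g => by
    show (sh O).map ((fg O).map g ▷ P) ≫ (sh O).map ((fg O).obj M' ◁ (shAdj O).unit.app P) =
      (sh O).map ((fg O).obj M ◁ (shAdj O).unit.app P) ≫
        (sh O).map ((fg O).map g ▷ (fg O).obj ((sh O).obj P))
    rw [← Functor.map_comp, ← Functor.map_comp]
    exact congrArg (sh O).map (whisker_exchange _ _).symm

/-- Sheafifications of sectionwise flat presheaves are flat. -/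
theorem isFlat_sh_of_flat (P : P₀ O) (h : ∀ X : Cᵒᵖ, Module.Flat (O.obj.obj X) (P.obj X)) :
    ModSite.IsFlat ((sh O).obj P) := by
  have := preservesFiniteLimits_tensorRight_of_flat P h
  have : PreservesFiniteLimits (fg O) :=
    have := (shAdj O).rightAdjoint_preservesLimits.{0, 0}
    ⟨fun _ => inferInstance⟩
  have : PreservesFiniteLimits (sh O) :=
    inferInstanceAs (PreservesFiniteLimits (PresheafOfModules.sheafification (𝟙 (ModSite.ringSh O).obj)))
  exact (isFlat_iff_preservesFiniteLimits _).2 (preservesFiniteLimits_of_natIso (tensorShIso P))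

/-- Sheafified free presheaves of modules are flat. -/
theorem isFlat_sh_free (K : Cᵒᵖ ⥤ Type u) :
    ModSite.IsFlat ((sh O).obj
      ((PresheafOfModules.free (O.obj ⋙ forget₂ CommRingCat.{u} RingCat.{u})).obj K)) :=
  isFlat_sh_of_flat _ fun X => inferInstanceAs (Module.Flat (O.obj.obj X) (K.obj X →₀ O.obj.obj X))

variable (O)

/-- The functorial free cover. -/
noncomputable abbrev coverG : ModSite.Mod O ⥤ ModSite.Mod O :=
  fg O ⋙ (PresheafOfModules.toPresheaf _ ⋙
    (Functor.whiskeringRight _ _ _).obj (CategoryTheory.forget Ab.{u})) ⋙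
      PresheafOfModules.free (O.obj ⋙ forget₂ CommRingCat.{u} RingCat.{u}) ⋙ sh O

/-- The covering maps. -/
noncomputable def coverπ : coverG O ⟶ 𝟭 (ModSite.Mod O) :=
  Functor.whiskerLeft (fg O)
    (Functor.whiskerRight (PresheafOfModules.freeAdjunction _).counit (sh O)) ≫ (counitIso O).hom

theorem epi_coverπ (M : ModSite.Mod O) : Epi ((coverπ O).app M) := by
  let ad := PresheafOfModules.freeAdjunction (O.obj ⋙ forget₂ CommRingCat.{u} RingCat.{u})
  have hepi : Epi (ad.counit.app ((fg O).obj M)) := by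
    refine PresheafOfModules.epi_of_surjective fun {X} x => ?_
    have h := ConcreteCategory.congr_hom (congrArg (fun t => NatTrans.app t X)
      (ad.right_triangle_components ((fg O).obj M))) x
    exact ⟨_, h⟩
  have : PreservesColimitsOfSize.{0, 0} (sh O) := (shAdj O).leftAdjoint_preservesColimits
  have h1 : Epi ((sh O).map (ad.counit.app ((fg O).obj M))) := (sh O).map_epi _
  exact @epi_comp _ _ _ _ _ ((sh O).map (ad.counit.app ((fg O).obj M))) h1 ((counitIso O).hom.app M)
    inferInstance

variable {O}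

theorem rightExactEnough : RightExactEnough (ModSite.tensorBi O) where
  right := fun X => preservesFiniteColimits_tensorBi_obj O X
  left := fun Y => preservesFiniteColimits_tensorBi_flip O Y
  enough X := by
    refine ⟨(coverG O).obj X, (coverπ O).app X, epi_coverπ O X, fun A B f _ => ?_⟩
    have h : Mono (((ModSite.tensorBi O).flip.obj ((coverG O).obj X)).map f) :=
      (isFlat_iff_mono _).1 (isFlat_sh_free _) f ‹_›
    exact ((MorphismProperty.monomorphisms _).arrow_mk_iso_iff
      (((Functor.mapArrowFunctor _ _).mapIso ((tensorFlipIso O).app ((coverG O).obj X))).app (Arrow.mk f))).1 h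

theorem flatThird_tensorBi : KFlatLib.FlatThird (ModSite.tensorBi O) :=
  flatThird rightExactEnough

theorem shortExact_flip_of_isFlat {S : ShortComplex (ModSite.Mod O)} (hS : S.ShortExact)
    (h : ModSite.IsFlat S.X₃) (G : ModSite.Mod O) :
    (S.map ((ModSite.tensorBi O).flip.obj G)).ShortExact :=
  ShortComplex.shortExact_of_iso (S.mapNatIso ((tensorFlipIso O).app G)).symm
    (flatThird_tensorBi G S hS ((isFlat_iff_flatObj _).1 h))

theorem isFlat_X₂ {S : ShortComplex (ModSite.Mod O)} (hS : S.ShortExact) (h₁ : ModSite.IsFlat S.X₁)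
    (h₃ : ModSite.IsFlat S.X₃) : ModSite.IsFlat S.X₂ :=
  (isFlat_iff_flatObj _).2
    (flatObj_X₂ rightExactEnough hS ((isFlat_iff_flatObj _).1 h₁) ((isFlat_iff_flatObj _).1 h₃))

theorem isFlat_X₁ {S : ShortComplex (ModSite.Mod O)} (hS : S.ShortExact) (h₂ : ModSite.IsFlat S.X₂)
    (h₃ : ModSite.IsFlat S.X₃) : ModSite.IsFlat S.X₁ :=
  (isFlat_iff_flatObj _).2
    (flatObj_X₁ rightExactEnough hS ((isFlat_iff_flatObj _).1 h₂) ((isFlat_iff_flatObj _).1 h₃))

/-- Colimits of flat sheaves of modules are flat when colimits of that shape are exact. -/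
theorem isFlat_of_isColimit {I : Type w} [Category.{w'} I] [HasColimitsOfShape I (ModSite.Mod O)]
    [HasExactColimitsOfShape I (ModSite.Mod O)]
    [∀ M, PreservesColimitsOfShape I ((ModSite.tensorBi O).obj M)]
    {D : I ⥤ ModSite.Mod O} (hD : ∀ i, ModSite.IsFlat (D.obj i)) {c : Cocone D} (hc : IsColimit c) :
    ModSite.IsFlat c.pt := by
  refine (isFlat_iff_mono _).2 fun A B f hf => ?_
  let α : D ⋙ (ModSite.tensorBi O).obj A ⟶ D ⋙ (ModSite.tensorBi O).obj B :=
    Functor.whiskerLeft D ((ModSite.tensorBi O).map f)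
  have : ∀ i, Mono (α.app i) := fun i => (isFlat_iff_mono _).1 (hD i) f hf
  have : Mono α := NatTrans.mono_of_mono_app _
  exact colim.map_mono' α (isColimitOfPreserves ((ModSite.tensorBi O).obj A) hc)
    (isColimitOfPreserves ((ModSite.tensorBi O).obj B) hc) _
    fun i => ((ModSite.tensorBi O).map f).naturality (c.ι.app i)

instance hasExactColimitsOfShape_discrete_univ (ι : Type u) :
    HasExactColimitsOfShape (Discrete ι) (ModSite.Mod O) := by
  haveI : AB4OfSize.{u} (ModSite.Mod O) := inferInstance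
  exact AB4OfSize.ofShape ι

/-- Sums of flat sheaves of modules are flat. -/
theorem isFlat_of_isColimit_cofan {ι : Type u} {F : ι → ModSite.Mod O} (hF : ∀ i, ModSite.IsFlat (F i))
    {c : Cofan F} (hc : IsColimit c) : ModSite.IsFlat c.pt :=
  isFlat_of_isColimit (I := Discrete ι) (D := Discrete.functor F) (fun i => hF i.as) hc

/-- Tensor products of flat modules are flat. -/
theorem isFlat_tensor {G F : ModSite.Mod O} (hG : ModSite.IsFlat G) (hF : ModSite.IsFlat F) :
    ModSite.IsFlat (((ModSite.tensorBi O).obj G).obj F) := by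
  refine (isFlat_iff_preservesFiniteLimits _).2 ?_
  have := hG.1
  have := hF.1
  refine preservesFiniteLimits_of_natIso
    (F := (ModSite.tensorBi O).flip.obj G ⋙ (ModSite.tensorBi O).flip.obj F) ?_
  refine Functor.associator (fg O ⋙ tensorRight ((fg O).obj G)) (sh O) _ ≪≫ ?_
  refine Functor.isoWhiskerLeft _ (shTensorRightIso F) ≪≫ ?_
  refine ?_ ≪≫ tensorShIso ((fg O).obj G ⊗ (fg O).obj F)
  exact Functor.isoWhiskerLeft (fg O) (Functor.isoWhiskerRight
    (tensorRightTensor ((fg O).obj G) ((fg O).obj F)).symm (sh O))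

end Groth.Agent.ModTensor
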