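import Groth.Agent.ModTensor.OverSum
import Groth.Agent.ModTensor.Flat
import Groth.Agent.ModTensor.FreeOn
import Mathlib.Algebra.Category.ModuleCat.Sheaf.PullbackContinuous
import Mathlib.CategoryTheory.Sites.Over

/-!
# Extension by zero of sheaves of modules
-/

universe u

open CategoryTheory CategoryTheory.Limits Opposite

namespace Groth.Agent.ModTensor

variable {C : Type u} [SmallCategory C] {J : GrothendieckTopology C} (O : Sheaf J CommRingCat.{u}) (U : C)

/-- Sheafification commutes with extension by zero. -/
noncomputable def extZeroShIso : sh (O.over U) ⋙ ModSite.extZero O U ≅ extP O.obj U ⋙ sh O :=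
  Adjunction.leftAdjointUniq ((shAdj (O.over U)).comp (ModSite.extZeroAdj O U))
    (((extPAdj O.obj U).comp (shAdj O)).ofNatIsoRight
      (Iso.refl _ : fg O ⋙ resP O.obj U ≅ ModSite.restr O U ⋙ fg (O.over U)))

/-- Extension by zero as a sheafification. -/
noncomputable def extZeroIso : ModSite.extZero O U ≅ fg (O.over U) ⋙ extP O.obj U ⋙ sh O :=
  (Functor.leftUnitor _).symm ≪≫ Functor.isoWhiskerRight (counitIso (O.over U)).symm _ ≪≫
    Functor.associator _ _ _ ≪≫ Functor.isoWhiskerLeft (fg (O.over U)) (extZeroShIso O U)

theorem preservesFiniteColimits_extZero : PreservesFiniteColimits (ModSite.extZero O U) := by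
  have : PreservesColimitsOfSize.{0, 0} (ModSite.extZero O U) :=
    (ModSite.extZeroAdj O U).leftAdjoint_preservesColimits
  exact ⟨fun _ => inferInstance⟩

theorem additive_extZero : (ModSite.extZero O U).Additive := by
  have := preservesFiniteColimits_extZero O U
  have := Functor.preservesZeroMorphisms_of_preserves_initial_object (F := ModSite.extZero O U)
  have : PreservesBinaryBiproducts (ModSite.extZero O U) :=
    preservesBinaryBiproducts_of_preservesBinaryCoproducts _
  exact Functor.additive_of_preservesBinaryBiproducts _

theorem mono_extZero_map {G G' : ModSite.Mod (O.over U)} (f : G ⟶ G') [Mono f] :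
    Mono ((ModSite.extZero O U).map f) := by
  have h1 : Mono ((fg (O.over U)).map f) := by
    have := (shAdj (O.over U)).rightAdjoint_preservesLimits.{0, 0}
    infer_instance
  have h2 : Mono ((extP O.obj U).map ((fg (O.over U)).map f)) :=
    PresheafOfModules.mono_of_injective fun {V} =>
      injective_extP_map O.obj U ((fg (O.over U)).map f)
        (fun Z => (PresheafOfModules.injective_of_mono ((fg (O.over U)).map f) (X := Z) :)) V
  have h3 : Mono ((sh O).map ((extP O.obj U).map ((fg (O.over U)).map f))) := by
    have : PreservesFiniteLimits (sh O) :=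
      inferInstanceAs (PreservesFiniteLimits (PresheafOfModules.sheafification (𝟙 (ModSite.ringSh O).obj)))
    infer_instance
  exact ((MorphismProperty.monomorphisms _).arrow_mk_iso_iff
    (((Functor.mapArrowFunctor _ _).mapIso (extZeroIso O U)).app (Arrow.mk f))).2 h3

theorem preservesFiniteLimits_extZero : PreservesFiniteLimits (ModSite.extZero O U) := by
  have := additive_extZero O U
  have := preservesFiniteColimits_extZero O U
  rw [Functor.preservesFiniteLimits_iff_forall_exact_map_and_mono]
  intro S hS
  have := hS.mono_f
  have := hS.epi_g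
  exact ⟨hS.exact.map_of_epi_of_preservesCokernel (ModSite.extZero O U) ‹_› inferInstance,
    mono_extZero_map O U S.f⟩

variable {O U}

/-- Extension by zero reflects zero objects. -/
theorem isZero_of_isZero_extZero (H : ModSite.Mod (O.over U)) (h : IsZero ((ModSite.extZero O U).obj H)) :
    IsZero H := by
  let G := (fg (O.over U)).obj H
  let P := (extP O.obj U).obj G
  have hz : IsZero ((SheafOfModules.toSheaf (ModSite.ringSh O)).obj ((sh O).obj P)) :=
    Functor.map_isZero _ (h.of_iso ((extZeroIso O U).app H).symm)
  have h0 : ∀ (Z : Over U) (g : sec G Z), g = 0 := fun Z g => by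
    let s : P.obj (op Z.left) := inclO G Z (𝟙 Z.left) g
    have hu : (CategoryTheory.toSheafify J P.presheaf).app (op Z.left) s =
        (CategoryTheory.toSheafify J P.presheaf).app (op Z.left) 0 := by
      have hz' : IsZero ((CategoryTheory.sheafify J P.presheaf).obj (op Z.left)) :=
        Functor.map_isZero (sheafToPresheaf J AddCommGrpCat.{u} ⋙ (evaluation _ _).obj (op Z.left)) hz
      have := AddCommGrpCat.subsingleton_of_isZero hz'
      exact this.elim _ _
    have := isLocallyInjective_unit P
    let S := Presheaf.equalizerSieve (F := ((PresheafOfModules.toPresheaf _).obj P)) (X := op Z.left) s 0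
    have hS : S ∈ J Z.left :=
      Presheaf.equalizerSieve_mem J (X := op Z.left)
        (φ := (PresheafOfModules.toPresheaf _).map ((shAdj O).unit.app P)) (h := hu)
    refine eq_of_locally (J := J.over U) (H := G) H.isSheaf (U := Z)
      (J.overEquiv_symm_mem_over Z S hS) fun W a ha => ?_
    have hW : rs P a.left.op s = rs P a.left.op 0 := (Sieve.overEquiv_symm_iff S a).1 ha
    have e : inclO G (V := op W.left) Z a.left g = 0 :=
      (rs_inclO_id G (V := op W.left) Z a.left g).symm.trans
        (hW.trans (map_zero (P.map a.left.op).hom))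
    have h1 := rsO_eq_zero_of_inclO_eq_zero G (V := op W.left) Z a.left g e
    have h2 := congrArg (rsO G (Over.homMk (𝟙 W.left) (by simp) : W ⟶ Over.mk (a.left ≫ Z.hom))) h1
    replace h2 := (rsO_comp G _ _ g).trans h2
    have ea : (Over.homMk (𝟙 W.left) (by simp) : W ⟶ Over.mk (a.left ≫ Z.hom)) ≫ Over.homMk a.left rfl = a :=
      Over.OverMorphism.ext (by simp)
    rw [ea] at h2
    exact h2.trans ((map_zero (G.map _).hom).trans (map_zero (G.map a.op).hom).symm)
  refine (IsZero.iff_id_eq_zero _).2 ((fg (O.over U)).map_injective ?_)
  exact PresheafOfModules.hom_ext fun Z => ModuleCat.hom_ext (LinearMap.ext fun g =>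
    (h0 Z.unop _).trans (h0 Z.unop _).symm)

/-- Extension by zero reflects exactness. -/
theorem exact_of_exact_map_extZero [(ModSite.extZero O U).PreservesZeroMorphisms]
    (S : ShortComplex (ModSite.Mod (O.over U))) (h : (S.map (ModSite.extZero O U)).Exact) : S.Exact := by
  have := preservesFiniteLimits_extZero O U
  have := preservesFiniteColimits_extZero O U
  rw [ShortComplex.exact_iff_isZero_homology]
  exact isZero_of_isZero_extZero _
    (((ShortComplex.exact_iff_isZero_homology _).1 h).of_iso (S.mapHomologyIso (ModSite.extZero O U)).symm)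

end Groth.Agent.ModTensor
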