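import Groth.Agent.ModTensor.Locally
import Mathlib.Algebra.Category.ModuleCat.Presheaf.Pushforward
import Mathlib.Algebra.DirectSum.Module
import Mathlib.CategoryTheory.Comma.Over.Basic

/-!
# Extension by zero of presheaves of modules
-/

universe u

open CategoryTheory CategoryTheory.Limits Opposite
open scoped DirectSum

namespace Groth.Agent.ModTensor

variable {C : Type u} [SmallCategory C] (R : Cᵒᵖ ⥤ CommRingCat.{u}) (U : C)

/-- Presheaves of modules on the slice. -/
abbrev PU := PM ((Over.forget U).op ⋙ R)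

/-- Restriction of presheaves of modules to the slice. -/
noncomputable abbrev resP : PM R ⥤ PU R U :=
  (PresheafOfModules.pushforward.{u} (F := Over.forget U)
    (𝟙 ((Over.forget U).op ⋙ R ⋙ forget₂ CommRingCat.{u} RingCat.{u})) : PM R ⥤ PU R U)

variable {R U} (G : PU R U)

/-- Sections over an object of the slice, over the ring of the underlying object. -/
abbrev sec (Z : Over U) : ModuleCat.{u} (R.obj (op Z.left)) := G.obj (op Z)

/-- A summand of the extension by zero. -/
abbrev smd {V : Cᵒᵖ} (φ : V.unop ⟶ U) : ModuleCat.{u} (R.obj V) := sec G (Over.mk φ)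

/-- Restriction in the slice. -/
noncomputable def rsO {Z Z' : Over U} (h : Z' ⟶ Z) (x : sec G Z) : sec G Z' := rs G h.op x

lemma rsO_add {Z Z' : Over U} (h : Z' ⟶ Z) (x y : sec G Z) :
    rsO G h (x + y) = rsO G h x + rsO G h y := rs_add (P := G) h.op x y

lemma rsO_smul {Z Z' : Over U} (h : Z' ⟶ Z) (r : R.obj (op Z.left)) (x : sec G Z) :
    rsO G h (r • x) = (R.map h.left.op).hom r • rsO G h x := rs_smul (P := G) h.op r x

lemma rsO_comp {Z Z' Z'' : Over U} (h : Z' ⟶ Z) (h' : Z'' ⟶ Z') (x : sec G Z) :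
    rsO G (h' ≫ h) x = rsO G h' (rsO G h x) := rs_comp (P := G) h.op h'.op x

lemma rsO_id {Z : Over U} (x : sec G Z) : rsO G (𝟙 Z) x = x := rs_id (P := G) x

/-- The sections of the extension by zero. -/
noncomputable abbrev extSec (V : Cᵒᵖ) : Type u := ⨁ φ : V.unop ⟶ U, smd G φ

/-- The inclusion of a summand. -/
noncomputable def inclBase {V : Cᵒᵖ} (φ : V.unop ⟶ U) : smd G φ →ₗ[R.obj V] extSec G V :=
  open Classical in
  DirectSum.lof (R.obj V) _ (fun φ : V.unop ⟶ U => smd G φ) φ

/-- The inclusion of a summand, for a map to an object of the slice. -/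
noncomputable def incl {V : Cᵒᵖ} (Z : Over U) (α : V.unop ⟶ Z.left) (x : sec G Z) : extSec G V :=
  inclBase G (α ≫ Z.hom) (rsO G (Over.homMk α rfl : Over.mk (α ≫ Z.hom) ⟶ Z) x)

lemma incl_add {V : Cᵒᵖ} (Z : Over U) (α : V.unop ⟶ Z.left) (x y : sec G Z) :
    incl G Z α (x + y) = incl G Z α x + incl G Z α y :=
  (congrArg (inclBase G (α ≫ Z.hom)) (rsO_add G _ x y)).trans (map_add _ _ _)

lemma incl_smul {V : Cᵒᵖ} (Z : Over U) (α : V.unop ⟶ Z.left) (r : R.obj (op Z.left)) (x : sec G Z) :
    incl G Z α (r • x) = (R.map α.op).hom r • incl G Z α x :=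
  (congrArg (inclBase G (α ≫ Z.hom)) (rsO_smul G _ r x)).trans (map_smul (inclBase G (α ≫ Z.hom)) _ _)

lemma inclBase_congr {V : Cᵒᵖ} {φ ψ : V.unop ⟶ U} (e : φ = ψ) {Z : Over U} (a : Over.mk φ ⟶ Z)
    (b : Over.mk ψ ⟶ Z) (h : a.left = b.left) (x : sec G Z) :
    inclBase G φ (rsO G a x) = inclBase G ψ (rsO G b x) := by
  subst e
  obtain rfl : a = b := Over.OverMorphism.ext h
  rfl

lemma incl_rs {V : Cᵒᵖ} {Z Z' : Over U} (h : Z ⟶ Z') (α : V.unop ⟶ Z.left) (x : sec G Z') :
    incl G Z α (rsO G h x) = incl G Z' (α ≫ h.left) x := by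
  have hw : α ≫ Z.hom = (α ≫ h.left) ≫ Z'.hom := by rw [Category.assoc, Over.w]
  refine (congrArg (inclBase G (α ≫ Z.hom)) (rsO_comp G h _ x).symm).trans ?_
  exact inclBase_congr G hw _ _ rfl x

lemma inclBase_eq_incl {V : Cᵒᵖ} (φ : V.unop ⟶ U) (x : smd G φ) :
    inclBase G φ x = incl G (Over.mk φ) (𝟙 _) x := by
  refine Eq.trans ?_ (inclBase_congr G (φ := φ) (ψ := 𝟙 V.unop ≫ φ) (Category.id_comp φ).symm
    (Z := Over.mk φ) (𝟙 (Over.mk φ)) (Over.homMk (𝟙 V.unop) rfl) rfl x)
  exact congrArg (inclBase G φ) (rsO_id G x).symm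

lemma extSec_hom_ext {V : Cᵒᵖ} {N : Type*} [AddCommGroup N] {f g : extSec G V →+ N}
    (h : ∀ (Z : Over U) (α : V.unop ⟶ Z.left) (x : sec G Z), f (incl G Z α x) = g (incl G Z α x)) :
    f = g := by
  classical
  refine DirectSum.addHom_ext fun φ x => ?_
  have := h (Over.mk φ) (𝟙 _) x
  rw [← inclBase_eq_incl] at this
  exact this

/-- Restriction on a summand. -/
noncomputable def summandMap {V W : Cᵒᵖ} (g : V ⟶ W) (φ : V.unop ⟶ U) :
    smd G φ →ₗ[R.obj V] ((ModuleCat.restrictScalars (R.map g).hom).obj (ModuleCat.of (R.obj W) (extSec G W))) where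
  toFun x := incl G (Over.mk φ) g.unop x
  map_add' x y := incl_add G _ g.unop x y
  map_smul' r x := incl_smul G (Over.mk φ) g.unop r x

/-- Restriction of sections. -/
noncomputable def extMap {V W : Cᵒᵖ} (g : V ⟶ W) :
    ModuleCat.of (R.obj V) (extSec G V) ⟶
      (ModuleCat.restrictScalars (R.map g).hom).obj (ModuleCat.of (R.obj W) (extSec G W)) :=
  open Classical in
  ModuleCat.ofHom
    (Y := (ModuleCat.restrictScalars (R.map g).hom).obj (ModuleCat.of (R.obj W) (extSec G W)))
    (DirectSum.toModule (R.obj V) _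
      ((ModuleCat.restrictScalars (R.map g).hom).obj (ModuleCat.of (R.obj W) (extSec G W)) : Type u)
      (summandMap G g))

lemma extMap_incl {V W : Cᵒᵖ} (g : V ⟶ W) (Z : Over U) (α : V.unop ⟶ Z.left) (x : sec G Z) :
    (extMap G g).hom (incl G Z α x) = incl G Z (g.unop ≫ α) x := by
  classical
  refine (DirectSum.toModule_lof (R.obj V) (φ := summandMap G g) (α ≫ Z.hom) _).trans ?_
  exact incl_rs G (Over.homMk α rfl : Over.mk (α ≫ Z.hom) ⟶ Z) g.unop x

/-- Extension by zero of a presheaf of modules. -/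
noncomputable def extObj : PM R where
  obj V := ModuleCat.of (R.obj V) (extSec G V)
  map g := extMap G g
  map_id V := by
    refine ModuleCat.hom_ext (LinearMap.ext fun x => ?_)
    refine DFunLike.congr_fun (extSec_hom_ext G (f := (extMap G (𝟙 V)).hom.toAddMonoidHom)
      (g := AddMonoidHom.id _) fun Z α y => ?_) x
    exact (extMap_incl G (𝟙 V) Z α y).trans (congrArg (fun t => incl G Z t y) (Category.id_comp α))
  map_comp {V W T} g g' := by
    refine ModuleCat.hom_ext (LinearMap.ext fun x => ?_)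
    refine DFunLike.congr_fun (extSec_hom_ext G (f := (extMap G (g ≫ g')).hom.toAddMonoidHom)
      (g := (extMap G g').hom.toAddMonoidHom.comp (extMap G g).hom.toAddMonoidHom) fun Z α y => ?_) x
    refine (extMap_incl G (g ≫ g') Z α y).trans ?_
    refine Eq.trans ?_ (congrArg (extMap G g').hom (extMap_incl G g Z α y)).symm
    exact (congrArg (fun t => incl G Z t y) (by simp)).trans (extMap_incl G g' Z (g.unop ≫ α) y).symm

/-- The inclusion of a summand into the extension by zero. -/
noncomputable def inclO {V : Cᵒᵖ} (Z : Over U) (α : V.unop ⟶ Z.left) (x : sec G Z) : (extObj G).obj V :=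
  incl G Z α x

lemma rs_inclO {V W : Cᵒᵖ} (g : V ⟶ W) (Z : Over U) (α : V.unop ⟶ Z.left) (x : sec G Z) :
    rs (extObj G) g (inclO G Z α x) = inclO G Z (g.unop ≫ α) x :=
  extMap_incl G g Z α x

lemma rs_inclO_id {V : Cᵒᵖ} (Z : Over U) (α : V.unop ⟶ Z.left) (x : sec G Z) :
    rs (extObj G) α.op (inclO G (V := op Z.left) Z (𝟙 Z.left) x) = inclO G Z α x :=
  (rs_inclO G α.op Z _ x).trans (congrArg (fun t => inclO G Z t x) (Category.comp_id α))

variable {G}

lemma extObj_hom_ext {M : PM R} {k₁ k₂ : extObj G ⟶ M}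
    (h : ∀ (Z : Over U) (x : sec G Z), k₁.app (op Z.left) (inclO G Z (𝟙 Z.left) x) =
      k₂.app (op Z.left) (inclO G Z (𝟙 Z.left) x)) : k₁ = k₂ := by
  refine PresheafOfModules.hom_ext fun V => ModuleCat.hom_ext (LinearMap.ext fun s => ?_)
  refine DFunLike.congr_fun (extSec_hom_ext G (f := (k₁.app V).hom.toAddMonoidHom)
    (g := (k₂.app V).hom.toAddMonoidHom) fun Z α y => ?_) s
  show k₁.app V (inclO G Z α y) = k₂.app V (inclO G Z α y)
  rw [← rs_inclO_id G Z α y, app_rs, app_rs, h]

variable {M : PM R}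

/-- A map to a restriction, on sections. -/
noncomputable def appO (h : G ⟶ (resP R U).obj M) (Z : Over U) (x : sec G Z) : M.obj (op Z.left) :=
  h.app (op Z) x

lemma appO_add (h : G ⟶ (resP R U).obj M) (Z : Over U) (x y : sec G Z) :
    appO h Z (x + y) = appO h Z x + appO h Z y :=
  map_add (h.app (op Z)).hom x y

lemma appO_smul (h : G ⟶ (resP R U).obj M) (Z : Over U) (r : R.obj (op Z.left)) (x : sec G Z) :
    appO h Z (r • x) = r • appO h Z x :=
  (h.app (op Z)).hom.map_smul' r x

lemma appO_rsO (h : G ⟶ (resP R U).obj M) {Z Z' : Over U} (a : Z' ⟶ Z) (x : sec G Z) :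
    appO h Z' (rsO G a x) = rs M a.left.op (appO h Z x) :=
  app_rs h a.op x

/-- The map out of a summand. -/
noncomputable def descSummand (h : G ⟶ (resP R U).obj M) (V : Cᵒᵖ) (φ : V.unop ⟶ U) :
    smd G φ →ₗ[R.obj V] M.obj V where
  toFun x := appO h (Over.mk φ) x
  map_add' x y := appO_add h _ x y
  map_smul' r x := appO_smul h (Over.mk φ) r x

/-- The map out of the extension by zero on sections. -/
noncomputable def descApp (h : G ⟶ (resP R U).obj M) (V : Cᵒᵖ) :
    ModuleCat.of (R.obj V) (extSec G V) ⟶ M.obj V :=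
  open Classical in
  ModuleCat.ofHom (DirectSum.toModule (R.obj V) _ (M.obj V : Type u) (descSummand h V))

lemma descApp_incl (h : G ⟶ (resP R U).obj M) {V : Cᵒᵖ} (Z : Over U) (α : V.unop ⟶ Z.left)
    (x : sec G Z) : (descApp h V).hom (incl G Z α x) = rs M α.op (appO h Z x) := by
  classical
  refine (DirectSum.toModule_lof (R.obj V) (φ := descSummand h V) (α ≫ Z.hom) _).trans ?_
  exact appO_rsO h _ x

/-- The map out of the extension by zero. -/
noncomputable def extDesc (h : G ⟶ (resP R U).obj M) : extObj G ⟶ M where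
  app V := descApp h V
  naturality {V W} g := by
    refine ModuleCat.hom_ext (LinearMap.ext fun s => ?_)
    refine DFunLike.congr_fun (extSec_hom_ext G
      (f := (descApp h W).hom.toAddMonoidHom.comp (extMap G g).hom.toAddMonoidHom)
      (g := (M.map g).hom.toAddMonoidHom.comp (descApp h V).hom.toAddMonoidHom) fun Z α y => ?_) s
    refine (congrArg (descApp h W).hom (extMap_incl G g Z α y)).trans ?_
    refine (descApp_incl h Z (g.unop ≫ α) y).trans ?_
    exact (rs_comp (P := M) α.op g _).trans (congrArg (rs M g) (descApp_incl h Z α y).symm)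

lemma extDesc_inclO (h : G ⟶ (resP R U).obj M) {V : Cᵒᵖ} (Z : Over U) (α : V.unop ⟶ Z.left)
    (x : sec G Z) : (extDesc h).app V (inclO G Z α x) = rs M α.op (appO h Z x) :=
  descApp_incl h Z α x

lemma extDesc_inclO_id (h : G ⟶ (resP R U).obj M) (Z : Over U) (x : sec G Z) :
    (extDesc h).app (op Z.left) (inclO G Z (𝟙 Z.left) x) = appO h Z x :=
  (extDesc_inclO h Z _ x).trans (rs_id (P := M) _)

variable (G)

lemma inclO_id_smul (Z : Over U) (r : R.obj (op Z.left)) (x : sec G Z) :
    inclO G (V := op Z.left) Z (𝟙 Z.left) (r • x) = r • inclO G (V := op Z.left) Z (𝟙 Z.left) x := by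
  have h : (R.map (𝟙 Z.left).op).hom r = r := by simp
  exact (incl_smul G (V := op Z.left) Z (𝟙 Z.left) r x).trans (congrArg (fun t => t • incl G (V := op Z.left) Z (𝟙 Z.left) x) h)

/-- The unit on sections, as a linear map. -/
noncomputable def unitLin (Z : Over U) : sec G Z →ₗ[R.obj (op Z.left)] (extObj G).obj (op Z.left) where
  toFun x := inclO G Z (𝟙 Z.left) x
  map_add' x y := incl_add G Z _ x y
  map_smul' r x := inclO_id_smul G Z r x

/-- A linear map as a map into a restriction of scalars along the identity. -/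
noncomputable def idLin {A : Type u} [Ring A] {N P : ModuleCat.{u} A} (φ : N →ₗ[A] P) :
    N ⟶ (ModuleCat.restrictScalars (RingHom.id A)).obj P :=
  ModuleCat.ofHom (Y := (ModuleCat.restrictScalars (RingHom.id A)).obj P)
    { toFun := fun x => φ x
      map_add' := fun x y => φ.map_add x y
      map_smul' := fun r x => φ.map_smul r x }

lemma inclO_rsO {V : Cᵒᵖ} {Z Z' : Over U} (h : Z ⟶ Z') (α : V.unop ⟶ Z.left) (x : sec G Z') :
    inclO G Z α (rsO G h x) = inclO G Z' (α ≫ h.left) x := incl_rs G h α x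

/-- The projection to a summand. -/
noncomputable def proj {V : Cᵒᵖ} (φ : V.unop ⟶ U) : extSec G V →ₗ[R.obj V] smd G φ :=
  DirectSum.component (R.obj V) _ (fun φ : V.unop ⟶ U => smd G φ) φ

/-- The projection to a summand of the extension by zero. -/
noncomputable def projO {V : Cᵒᵖ} (φ : V.unop ⟶ U) (s : (extObj G).obj V) : smd G φ := proj G φ s

lemma projO_inclO_self {V : Cᵒᵖ} (Z : Over U) (α : V.unop ⟶ Z.left) (x : sec G Z) :
    projO G (α ≫ Z.hom) (inclO G Z α x) = rsO G (Over.homMk α rfl : Over.mk (α ≫ Z.hom) ⟶ Z) x := by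
  classical
  exact DirectSum.component.lof_self (R.obj V) (α ≫ Z.hom) _

lemma projO_inclO_of_ne {V : Cᵒᵖ} (φ : V.unop ⟶ U) (Z : Over U) (α : V.unop ⟶ Z.left) (x : sec G Z)
    (h : α ≫ Z.hom ≠ φ) : projO G φ (inclO G Z α x) = 0 := by
  classical
  show DirectSum.component (R.obj V) _ (fun φ : V.unop ⟶ U => smd G φ) φ
    (DirectSum.lof (R.obj V) _ (fun φ : V.unop ⟶ U => smd G φ) _ _) = 0
  rw [DirectSum.component.of, dif_neg h]

lemma projO_ext {V : Cᵒᵖ} {s t : (extObj G).obj V} (h : ∀ φ, projO G φ s = projO G φ t) : s = t :=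
  DFinsupp.ext fun φ => h φ

lemma rsO_eq_zero_of_inclO_eq_zero {V : Cᵒᵖ} (Z : Over U) (α : V.unop ⟶ Z.left) (x : sec G Z)
    (h : inclO G Z α x = 0) : rsO G (Over.homMk α rfl : Over.mk (α ≫ Z.hom) ⟶ Z) x = 0 := by
  rw [← projO_inclO_self, h]
  exact map_zero (proj G (α ≫ Z.hom))

lemma inclO_zero {V : Cᵒᵖ} (Z : Over U) (α : V.unop ⟶ Z.left) : inclO G Z α 0 = 0 := by
  have h := incl_add G Z α 0 0
  rw [add_zero] at h
  exact left_eq_add.1 h

lemma projO_extDesc {G' : PU R U} (f : G ⟶ G') (h : G ⟶ (resP R U).obj (extObj G'))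
    (hh : ∀ (Z : Over U) (x : sec G Z), appO h Z x = inclO G' Z (𝟙 Z.left) (f.app (op Z) x))
    {V : Cᵒᵖ} (φ : V.unop ⟶ U) (s : (extObj G).obj V) :
    projO G' φ ((extDesc h).app V s) = f.app (op (Over.mk φ)) (projO G φ s) := by
  refine DFunLike.congr_fun (extSec_hom_ext G
    (f := (proj G' φ).toAddMonoidHom.comp ((extDesc h).app V).hom.toAddMonoidHom)
    (g := (f.app (op (Over.mk φ))).hom.toAddMonoidHom.comp (proj G φ).toAddMonoidHom)
    fun Z α y => ?_) s
  show projO G' φ ((extDesc h).app V (inclO G Z α y)) = f.app (op (Over.mk φ)) (projO G φ (inclO G Z α y))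
  rw [extDesc_inclO, hh, rs_inclO_id]
  by_cases e : α ≫ Z.hom = φ
  · subst e
    refine (projO_inclO_self G' Z α _).trans ?_
    refine Eq.trans ?_ (congrArg (f.app (op (Over.mk (α ≫ Z.hom)))) (projO_inclO_self G Z α y)).symm
    exact (app_rs f _ y).symm
  · rw [projO_inclO_of_ne G' φ Z α _ e, projO_inclO_of_ne G φ Z α y e]
    exact (map_zero (f.app (op (Over.mk φ))).hom).symm

lemma inclO_add {V : Cᵒᵖ} (Z : Over U) (α : V.unop ⟶ Z.left) (x y : sec G Z) :
    inclO G Z α (x + y) = inclO G Z α x + inclO G Z α y := incl_add G Z α x y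

attribute [irreducible] extObj inclO extDesc projO

/-- The unit on sections. -/
noncomputable def unitApp (Z : (Over U)ᵒᵖ) : G.obj Z ⟶ ((resP R U).obj (extObj G)).obj Z :=
  idLin (A := ((((Over.forget U).op ⋙ R) ⋙ forget₂ CommRingCat.{u} RingCat.{u}).obj Z))
    (P := (extObj G).obj (op Z.unop.left)) (unitLin G Z.unop)

/-- The unit of the extension by zero. -/
noncomputable def extUnit : G ⟶ (resP R U).obj (extObj G) where
  app := unitApp G
  naturality {Z Z'} g := by
    refine ModuleCat.hom_ext (LinearMap.ext fun x => ?_)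
    show inclO G (V := op Z'.unop.left) Z'.unop (𝟙 Z'.unop.left) (rsO G g.unop x) =
      rs (extObj G) g.unop.left.op (inclO G (V := op Z.unop.left) Z.unop (𝟙 Z.unop.left) x)
    rw [inclO_rsO]
    refine Eq.trans ?_ (rs_inclO_id G (V := op Z'.unop.left) Z.unop g.unop.left x).symm
    exact congrArg (fun t => inclO G Z.unop t x) (Category.id_comp _)

variable {G}

lemma extDesc_unit (h : G ⟶ (resP R U).obj M) : extUnit G ≫ (resP R U).map (extDesc h) = h := by
  refine PresheafOfModules.hom_ext fun Z => ModuleCat.hom_ext (LinearMap.ext fun x => ?_)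
  show (extDesc h).app (op Z.unop.left) (inclO G Z.unop (𝟙 _) x) = h.app Z x
  exact extDesc_inclO_id h Z.unop x

lemma appO_comp_extUnit {G' : PU R U} (f : G ⟶ G') (Z : Over U) (x : sec G Z) :
    appO (f ≫ extUnit G') Z x = inclO G' Z (𝟙 Z.left) (f.app (op Z) x) := rfl

lemma appO_comp {G' : PU R U} (f : G ⟶ G') (h : G' ⟶ (resP R U).obj M) (Z : Over U) (x : sec G Z) :
    appO (f ≫ h) Z x = appO h Z (f.app (op Z) x) := rfl

variable (R U)

/-- Extension by zero of presheaves of modules. -/
@[reducible]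
noncomputable def extP : PU R U ⥤ PM R where
  obj G := extObj G
  map f := extDesc (f ≫ extUnit _)
  map_id G := extObj_hom_ext fun Z x => by
    rw [extDesc_inclO_id, appO_comp_extUnit]
    rfl
  map_comp {G G' G''} f f' := extObj_hom_ext fun Z x => by
    rw [extDesc_inclO_id, appO_comp_extUnit]
    show _ = (extDesc (f' ≫ extUnit G'')).app (op Z.left)
      ((extDesc (f ≫ extUnit G')).app (op Z.left) (inclO G Z (𝟙 Z.left) x))
    rw [extDesc_inclO_id, appO_comp_extUnit, extDesc_inclO_id, appO_comp_extUnit]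
    rfl

lemma injective_extP_map {G G' : PU R U} (f : G ⟶ G')
    (hf : ∀ Z, Function.Injective (f.app Z)) (V : Cᵒᵖ) :
    Function.Injective ((extDesc (f ≫ extUnit G')).app V) := fun s t e =>
  projO_ext G fun φ => hf _ (by
    rw [← projO_extDesc G f (f ≫ extUnit G') (fun Z x => appO_comp_extUnit f Z x) φ s,
      ← projO_extDesc G f (f ≫ extUnit G') (fun Z x => appO_comp_extUnit f Z x) φ t, e])

lemma extP_map_inclO {G G' : PU R U} (f : G ⟶ G') {V : Cᵒᵖ} (Z : Over U) (α : V.unop ⟶ Z.left)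
    (x : sec G Z) : (extDesc (f ≫ extUnit G')).app V (inclO G Z α x) = inclO G' Z α (f.app (op Z) x) := by
  rw [extDesc_inclO, appO_comp_extUnit, rs_inclO_id]

/-- Extension by zero is left adjoint to restriction. -/
noncomputable def extPAdj : extP R U ⊣ resP R U :=
  Adjunction.mkOfHomEquiv
    { homEquiv := fun G M =>
        { toFun := fun k => extUnit G ≫ (resP R U).map k
          invFun := extDesc
          left_inv := fun k => extObj_hom_ext fun Z x => by
            rw [extDesc_inclO_id]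
            rfl
          right_inv := extDesc_unit }
      homEquiv_naturality_left_symm := fun {G G' M} f h => extObj_hom_ext fun Z x => by
        show (extDesc (f ≫ h)).app (op Z.left) (inclO G Z (𝟙 Z.left) x) =
          (extDesc h).app (op Z.left) ((extDesc (f ≫ extUnit G')).app (op Z.left) (inclO G Z (𝟙 Z.left) x))
        rw [extDesc_inclO_id, extDesc_inclO_id (f ≫ extUnit G'), appO_comp_extUnit, extDesc_inclO_id,
          appO_comp]
      homEquiv_naturality_right := fun {G M N} k l => by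
        simp only [Equiv.coe_fn_mk, Functor.map_comp, Category.assoc] }

end Groth.Agent.ModTensor
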