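import Groth.Agent.ModTensor.Proj
import Groth.Agent.ModTensor.ExtZero

/-!
# The projection formula for extension by zero of sheaves of modules
-/

universe u

open CategoryTheory CategoryTheory.Limits Opposite MonoidalCategory

namespace Groth.Agent.ModTensor

variable {C : Type u} [SmallCategory C] {J : GrothendieckTopology C}

section Pre

variable {R : Cᵒᵖ ⥤ CommRingCat.{u}} (U : C)

/-- The projection formula, natural in the module on the slice. -/
noncomputable def projNatIsoRight (M : PM R) :
    tensorRight ((resP R U).obj M) ⋙ extP R U ≅ extP R U ⋙ tensorRight M :=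
  NatIso.ofComponents (fun Q => projIso Q M) fun {Q Q'} f => by
    have h := projIso_hom_naturality (M := M) f (𝟙 M)
    rw [CategoryTheory.Functor.map_id, MonoidalCategory.tensorHom_id, MonoidalCategory.tensorHom_id] at h
    exact h

/-- The projection formula, natural in the module on the site. -/
noncomputable def projNatIsoLeft (Q : PU R U) :
    resP R U ⋙ tensorLeft Q ⋙ extP R U ≅ tensorLeft ((extP R U).obj Q) :=
  NatIso.ofComponents (fun M => projIso Q M) fun {M M'} g => by
    have h := projIso_hom_naturality (Q := Q) (𝟙 Q) g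
    rw [CategoryTheory.Functor.map_id, MonoidalCategory.id_tensorHom, MonoidalCategory.id_tensorHom] at h
    exact h

theorem resTensor_bijective {U : C} (A B : PM R) (Z : (Over U)ᵒᵖ) :
    Function.Bijective ((resTensor (U := U) A B).app Z).hom := by
  have h : ∀ t, ((resTensor (U := U) A B).app Z).hom t = t := by
    intro t
    induction t using TensorProduct.induction_on with
    | zero => exact map_zero _
    | tmul a b => rfl
    | add a b ha hb => exact (map_add _ a b).trans (congrArg₂ (· + ·) ha hb)
  exact ⟨fun s t e => (h s).symm.trans (e.trans (h t)), fun t => ⟨t, h t⟩⟩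

theorem isIso_resTensor (A B : PM R) : IsIso (resTensor (U := U) A B) := by
  have : ∀ Z, IsIso ((resTensor (U := U) A B).app Z) := fun Z =>
    (ConcreteCategory.isIso_iff_bijective _).2 (resTensor_bijective A B Z)
  exact (PresheafOfModules.isoMk (fun Z => asIso ((resTensor (U := U) A B).app Z))
    fun _ _ f => (resTensor (U := U) A B).naturality f).isIso_hom

end Pre

variable (O : Sheaf J CommRingCat.{u}) (U : C)

/-- Sheafification inverts local bijections. -/
theorem isIso_sh_map_of_locallyBijective {P Q : P₀ O} (f : P ⟶ Q)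
    [Presheaf.IsLocallyInjective J ((PresheafOfModules.toPresheaf _).map f)]
    [Presheaf.IsLocallySurjective J ((PresheafOfModules.toPresheaf _).map f)] :
    IsIso ((sh O).map f) := by
  have := isIso_sh_map_whiskerRight f (𝟙_ (P₀ O))
  rw [show f = (ρ_ P).inv ≫ f ▷ 𝟙_ (P₀ O) ≫ (ρ_ Q).hom by simp, Functor.map_comp, Functor.map_comp]
  infer_instance

theorem locallyInjective_resP_unit (P : P₀ O) :
    Presheaf.IsLocallyInjective (J.over U) ((PresheafOfModules.toPresheaf _).map
      ((resP O.obj U).map ((shAdj O).unit.app P))) where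
  equalizerSieve_mem {Z} x y e := by
    obtain ⟨Z⟩ := Z
    have hS := (isLocallyInjective_unit P).equalizerSieve_mem (X := op Z.left) x y e
    refine (J.over U).superset_covering (fun W a ha => ?_) (J.overEquiv_symm_mem_over Z _ hS)
    exact (Sieve.overEquiv_symm_iff _ a).1 ha

theorem locallySurjective_resP_unit (P : P₀ O) :
    Presheaf.IsLocallySurjective (J.over U) ((PresheafOfModules.toPresheaf _).map
      ((resP O.obj U).map ((shAdj O).unit.app P))) where
  imageSieve_mem {Z} s := by
    have hS := (isLocallySurjective_unit P).imageSieve_mem (U := Z.left) s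
    refine (J.over U).superset_covering (fun W a ha => ?_) (J.overEquiv_symm_mem_over Z _ hS)
    exact (Sieve.overEquiv_symm_iff _ a).1 ha

theorem isIso_sh_map_resP_unit (P : P₀ O) :
    IsIso ((sh (O.over U)).map ((resP O.obj U).map ((shAdj O).unit.app P))) := by
  exact @isIso_sh_map_of_locallyBijective _ _ _ (O.over U) _ _ ((resP O.obj U).map ((shAdj O).unit.app P))
    (locallyInjective_resP_unit O U P) (locallySurjective_resP_unit O U P)

/-- Restriction commutes with sheafification. -/
noncomputable def shRestrIso : resP O.obj U ⋙ sh (O.over U) ≅ sh O ⋙ ModSite.restr O U :=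
  NatIso.ofComponents (fun P => @asIso _ _ _ _ _ (isIso_sh_map_resP_unit O U P) ≪≫
      (counitIso (O.over U)).app ((ModSite.restr O U).obj ((sh O).obj P))) fun {P Q} g => by
    show (sh (O.over U)).map ((resP O.obj U).map g) ≫
        (sh (O.over U)).map ((resP O.obj U).map ((shAdj O).unit.app Q)) ≫
          (counitIso (O.over U)).hom.app ((ModSite.restr O U).obj ((sh O).obj Q)) =
      ((sh (O.over U)).map ((resP O.obj U).map ((shAdj O).unit.app P)) ≫
          (counitIso (O.over U)).hom.app ((ModSite.restr O U).obj ((sh O).obj P))) ≫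
        (ModSite.restr O U).map ((sh O).map g)
    refine Eq.trans ?_ (Category.assoc _ _ _).symm
    refine Eq.trans ?_ (congrArg (fun t => (sh (O.over U)).map ((resP O.obj U).map ((shAdj O).unit.app P)) ≫ t)
      ((counitIso (O.over U)).hom.naturality ((ModSite.restr O U).map ((sh O).map g))))
    refine (Category.assoc _ _ _).symm.trans (Eq.trans ?_ (Category.assoc _ _ _))
    refine congrArg (fun t => t ≫ (counitIso (O.over U)).hom.app ((ModSite.restr O U).obj ((sh O).obj Q))) ?_
    refine ((sh (O.over U)).map_comp _ _).symm.trans (Eq.trans ?_ ((sh (O.over U)).map_comp _ _))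
    refine congrArg (fun t => (sh (O.over U)).map t) ?_
    refine ((resP O.obj U).map_comp _ _).symm.trans (Eq.trans ?_ ((resP O.obj U).map_comp _ _))
    exact congrArg (fun t => (resP O.obj U).map t) ((shAdj O).unit.naturality g)

/-- Restriction commutes with tensor products. -/
noncomputable def restrTensorIso (M N : ModSite.Mod O) :
    (ModSite.restr O U).obj (((ModSite.tensorBi O).obj M).obj N) ≅
      ((ModSite.tensorBi (O.over U)).obj ((ModSite.restr O U).obj M)).obj ((ModSite.restr O U).obj N) :=
  ((shRestrIso O U).app ((fg O).obj M ⊗ (fg O).obj N)).symm ≪≫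
    ((sh (O.over U)).mapIso
      (@asIso _ _ _ _ (resTensor (U := U) ((fg O).obj M) ((fg O).obj N)) (isIso_resTensor U _ _))).symm

/-- The projection formula, natural in the module on the slice. -/
noncomputable def extZeroTensorIso (N : ModSite.Mod O) :
    (ModSite.tensorBi (O.over U)).flip.obj ((ModSite.restr O U).obj N) ⋙ ModSite.extZero O U ≅
      ModSite.extZero O U ⋙ (ModSite.tensorBi O).flip.obj N :=
  Functor.isoWhiskerLeft (fg (O.over U) ⋙ tensorRight ((resP O.obj U).obj ((fg O).obj N)))
      (extZeroShIso O U) ≪≫
    Functor.isoWhiskerLeft (fg (O.over U))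
      (Functor.isoWhiskerRight (projNatIsoRight U ((fg O).obj N)) (sh O)) ≪≫
    Functor.isoWhiskerLeft (fg (O.over U) ⋙ extP O.obj U) (shTensorRightIso N).symm ≪≫
    Functor.isoWhiskerRight (extZeroIso O U).symm ((ModSite.tensorBi O).flip.obj N)

/-- Tensoring on the left with a sheafified presheaf. -/
noncomputable def tensorShIsoLeft (P : P₀ O) :
    fg O ⋙ tensorLeft P ⋙ sh O ≅ (ModSite.tensorBi O).obj ((sh O).obj P) :=
  Functor.isoWhiskerLeft (fg O) (Functor.isoWhiskerRight
      (BraidedCategory.tensorLeftIsoTensorRight P) (sh O)) ≪≫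
    tensorShIso P ≪≫ (tensorFlipIso O).app ((sh O).obj P)

/-- The projection formula, natural in the module on the site. -/
noncomputable def extZeroTensorIsoLeft (P : ModSite.Mod (O.over U)) :
    ModSite.restr O U ⋙ (ModSite.tensorBi (O.over U)).obj P ⋙ ModSite.extZero O U ≅
      (ModSite.tensorBi O).obj ((ModSite.extZero O U).obj P) :=
  Functor.isoWhiskerLeft (fg O ⋙ resP O.obj U ⋙ tensorLeft ((fg (O.over U)).obj P)) (extZeroShIso O U) ≪≫
    Functor.isoWhiskerLeft (fg O)
      (Functor.isoWhiskerRight (projNatIsoLeft U ((fg (O.over U)).obj P)) (sh O)) ≪≫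
    tensorShIsoLeft O _ ≪≫ (ModSite.tensorBi O).mapIso ((extZeroIso O U).app P).symm

/-- The structure sheaf is a unit for the tensor product. -/
noncomputable def unitTensorIso : (ModSite.tensorBi O).obj (ModSite.unit O) ≅ 𝟭 (ModSite.Mod O) :=
  Functor.isoWhiskerLeft (fg O) (Functor.isoWhiskerRight (leftUnitorNatIso (P₀ O)) (sh O)) ≪≫ counitIso O

/-- `j_! O_U` tensored with a module. -/
noncomputable def freeOnTensorIso (M : ModSite.Mod O) :
    ((ModSite.tensorBi O).obj (ModSite.freeOn O U)).obj M ≅
      (ModSite.extZero O U).obj ((ModSite.restr O U).obj M) :=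
  ((extZeroTensorIso O U M).app _).symm ≪≫
    (ModSite.extZero O U).mapIso ((unitTensorIso (O.over U)).app _)

variable {O U}

/-- Extension by zero preserves flatness. -/
theorem isFlat_extZero {P : ModSite.Mod (O.over U)} (hP : ModSite.IsFlat P) :
    ModSite.IsFlat ((ModSite.extZero O U).obj P) := by
  refine (isFlat_iff_mono _).2 fun A B f hf => ?_
  have h0 : Mono ((ModSite.restr O U).map f) := by
    have := (ModSite.extZeroAdj O U).rightAdjoint_preservesLimits.{0, 0}
    infer_instance
  have h1 : Mono (((ModSite.tensorBi (O.over U)).obj P).map ((ModSite.restr O U).map f)) :=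
    ((MorphismProperty.monomorphisms _).arrow_mk_iso_iff
      (((Functor.mapArrowFunctor _ _).mapIso ((tensorFlipIso (O.over U)).app P)).app (Arrow.mk _))).1
      ((isFlat_iff_mono P).1 hP _ h0)
  have h2 := mono_extZero_map O U (((ModSite.tensorBi (O.over U)).obj P).map ((ModSite.restr O U).map f))
  exact ((MorphismProperty.monomorphisms _).arrow_mk_iso_iff
      (((Functor.mapArrowFunctor _ _).mapIso (extZeroTensorIsoLeft O U P ≪≫
        ((tensorFlipIso O).app ((ModSite.extZero O U).obj P)).symm)).app (Arrow.mk f))).1 h2

theorem mono_of_mono_extZero_map {G G' : ModSite.Mod (O.over U)} (f : G ⟶ G')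
    (h : Mono ((ModSite.extZero O U).map f)) : Mono f := by
  have := additive_extZero O U
  let S := ShortComplex.mk (0 : G ⟶ G) f zero_comp
  have hS : S.Exact := exact_of_exact_map_extZero S
    ((ShortComplex.exact_iff_mono (S.map (ModSite.extZero O U)) ((ModSite.extZero O U).map_zero _ _)).2 h)
  exact (ShortComplex.exact_iff_mono S rfl).1 hS

/-- Restriction preserves flatness. -/
theorem isFlat_restr {M : ModSite.Mod O} (hM : ModSite.IsFlat M) (U : C) :
    ModSite.IsFlat ((ModSite.restr O U).obj M) := by
  refine (isFlat_iff_mono _).2 fun A B f hf => mono_of_mono_extZero_map _ ?_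
  have := mono_extZero_map O U f
  exact ((MorphismProperty.monomorphisms _).arrow_mk_iso_iff
      (((Functor.mapArrowFunctor _ _).mapIso (extZeroTensorIso O U M)).app (Arrow.mk f))).2
      ((isFlat_iff_mono M).1 hM _ this)

end Groth.Agent.ModTensor
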