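import Groth.Agent.ModTensor.Flat
import Groth.Agent.KFlatLib.Setup
import Groth.Agent.KFlatLib.SingleIso
import Mathlib.CategoryTheory.Limits.Shapes.BinaryBiproducts

/-!
# K-flat complexes of sheaves of modules on a ringed site
-/

set_option linter.style.haveILetI false

universe u

open CategoryTheory CategoryTheory.Limits Opposite

namespace Groth.Agent.ModTensor

variable {C : Type u} [SmallCategory C] {J : GrothendieckTopology C} (O : Sheaf J CommRingCat.{u})

lemma isFlat_biprod (X Y : ModSite.Mod O) (hX : ModSite.IsFlat X) (hY : ModSite.IsFlat Y) :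
    ModSite.IsFlat (X ⊞ Y) :=
  (isFlat_iff_flatObj _).2 (flatObj_biprod (T := ModSite.tensorBi O) rightExactEnough X Y
    ((isFlat_iff_flatObj _).1 hX) ((isFlat_iff_flatObj _).1 hY))

lemma isFlat_of_isZero (X : ModSite.Mod O) (hX : IsZero X) : ModSite.IsFlat X :=
  (isFlat_iff_flatObj _).2 (flatObj_of_isZero (T := ModSite.tensorBi O) hX)

lemma isFlat_colimit_nat ⦃F : ℕ ⥤ ModSite.Mod O⦄ (c : Cocone F) (hc : IsColimit c)
    (h : ∀ k, ModSite.IsFlat (F.obj k)) : ModSite.IsFlat c.pt :=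
  isFlat_of_isColimit h hc

/-- The flat cover of sheaves of modules. -/
noncomputable def flatCover : KFlatLib.FlatCover (ModSite.Mod O) where
  Flat := fun M => ModSite.IsFlat M
  G := coverG O
  π := coverπ O
  epi := epi_coverπ O
  flat := fun M => isFlat_sh_free _
  of_iso := fun _ _ e h => isFlat_of_iso e h
  biprod := isFlat_biprod O
  zero := isFlat_of_isZero O
  colim := isFlat_colimit_nat O

variable {O}

lemma flatObj_flatCover (M : ModSite.Mod O) (h : (flatCover O).Flat M) :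
    KFlatLib.FlatObj (ModSite.tensorBi O) M :=
  (isFlat_iff_flatObj M).1 h

lemma kFlat_iff_isKFlat {K : CochainComplex (ModSite.Mod O) ℤ} :
    KFlatLib.KFlat (ModSite.tensorBi O) K ↔ ModSite.IsKFlat K :=
  Iff.rfl

lemma kFlat_of_forall_acyclic {K : CochainComplex (ModSite.Mod O) ℤ}
    (h : ∀ L : CochainComplex (ModSite.Mod O) ℤ, L.Acyclic →
      (HomologicalComplex.mapBifunctor L K (ModSite.tensorBi O) (ComplexShape.up ℤ)).Acyclic) :
    KFlatLib.KFlat (ModSite.tensorBi O) K :=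
  KFlatLib.kFlat_iff.2 fun L hL => h L hL

/-- The K-flat resolution. -/
theorem exists_resolution (G : CochainComplex (ModSite.Mod O) ℤ) :
    ∃ (K : CochainComplex (ModSite.Mod O) ℤ) (q : K ⟶ G), ModSite.IsKFlat K ∧
      (∀ n : ℤ, ModSite.IsFlat (K.X n)) ∧ QuasiIso q ∧ ∀ n : ℤ, Epi (q.f n) :=
  ⟨(flatCover O).P.obj G, (flatCover O).ψ.app G,
    kFlat_iff_isKFlat.1 ((flatCover O).kFlat_P flatObj_flatCover G),
    fun n => (flatCover O).flat_P G n, (flatCover O).quasiIso_ψ G, fun n => (flatCover O).epi_ψ_f G n⟩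

/-- Tensoring a quasi-isomorphism of K-flat complexes with anything gives a quasi-isomorphism. -/
theorem quasiIso_tensor {P Q : CochainComplex (ModSite.Mod O) ℤ} (α : P ⟶ Q) [QuasiIso α]
    (hP : ModSite.IsKFlat P) (hQ : ModSite.IsKFlat Q) (F : CochainComplex (ModSite.Mod O) ℤ) :
    QuasiIso (((ModSite.tensorCx O).obj F).map α) :=
  KFlatLib.quasiIso_tensor (flatCover O) flatObj_flatCover (tensorFlipIso O) α hP hQ F

/-- Bounded above complexes of flat modules are K-flat. -/
theorem isKFlat_of_isStrictlyLE (K : CochainComplex (ModSite.Mod O) ℤ) (b : ℤ) [K.IsStrictlyLE b]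
    (h : ∀ n, ModSite.IsFlat (K.X n)) : ModSite.IsKFlat K :=
  KFlatLib.kFlat_of_isStrictlyLE b fun n => (isFlat_iff_flatObj _).1 (h n)

/-- Two out of three for mapping cones. -/
theorem isKFlat_mappingCone_two_out_of_three {F G : CochainComplex (ModSite.Mod O) ℤ} (φ : F ⟶ G) :
    (ModSite.IsKFlat F → ModSite.IsKFlat G → ModSite.IsKFlat (CochainComplex.mappingCone φ)) ∧
    (ModSite.IsKFlat F → ModSite.IsKFlat (CochainComplex.mappingCone φ) → ModSite.IsKFlat G) ∧
    (ModSite.IsKFlat G → ModSite.IsKFlat (CochainComplex.mappingCone φ) → ModSite.IsKFlat F) := by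
  obtain ⟨_, _, h231⟩ := KFlatLib.kFlat_two_out_of_three (T := ModSite.tensorBi O)
    (S := KFlatLib.coneSeq φ) fun L =>
      KFlatLib.shortExact₂_of_splitting L (KFlatLib.coneSeq φ) (fun n => ⟨KFlatLib.coneSeqSplitting φ n⟩)
  obtain ⟨h12, _, _⟩ := KFlatLib.kFlat_two_out_of_three (T := ModSite.tensorBi O)
    (S := KFlatLib.coneSeq φ) fun L =>
      KFlatLib.shortExact₂_of_splitting L (KFlatLib.coneSeq φ) (fun n => ⟨KFlatLib.coneSeqSplitting φ n⟩)
  refine ⟨fun hF hG => KFlatLib.kFlat_cone φ hF hG, fun hF hc => h231 hc (KFlatLib.KFlat.shift hF 1),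
    fun hG hc => ?_⟩
  have h1 : KFlatLib.KFlat (ModSite.tensorBi O) ((CategoryTheory.shiftFunctor _ (1 : ℤ)).obj F) :=
    h12 hG hc
  exact (h1.shift (-1)).of_iso ((shiftEquiv (CochainComplex (ModSite.Mod O) ℤ) (1 : ℤ)).unitIso.app F).symm

/-- Two out of three for short exact sequences with flat third term. -/
theorem isKFlat_two_out_of_three (S : ShortComplex (CochainComplex (ModSite.Mod O) ℤ)) (hS : S.ShortExact)
    (h3 : ∀ n : ℤ, ModSite.IsFlat (S.X₃.X n)) :
    (ModSite.IsKFlat S.X₁ → ModSite.IsKFlat S.X₂ → ModSite.IsKFlat S.X₃) ∧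
    (ModSite.IsKFlat S.X₁ → ModSite.IsKFlat S.X₃ → ModSite.IsKFlat S.X₂) ∧
    (ModSite.IsKFlat S.X₂ → ModSite.IsKFlat S.X₃ → ModSite.IsKFlat S.X₁) :=
  KFlatLib.kFlat_two_out_of_three_of_flat (T := ModSite.tensorBi O) (S := S) flatThird_tensorBi hS fun n => (isFlat_iff_flatObj _).1 (h3 n)

/-- Sequential colimits of K-flat complexes are K-flat. -/
theorem isKFlat_colimit (K : ℕ ⥤ CochainComplex (ModSite.Mod O) ℤ)
    (h : ∀ n, ModSite.IsKFlat (K.obj n)) : ModSite.IsKFlat (colimit K) :=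
  KFlatLib.kFlat_of_isColimit (colimit.isColimit K) h

/-- Factorisation through K-flat complexes. -/
theorem factor_through_isKFlat {K L : CochainComplex (ModSite.Mod O) ℤ} (a : K ⟶ L)
    (hK : ModSite.IsKFlat K) :
    ∃ (N : CochainComplex (ModSite.Mod O) ℤ) (b : K ⟶ N) (c : N ⟶ L), ModSite.IsKFlat N ∧ QuasiIso c ∧
      Nonempty (Homotopy a (b ≫ c)) ∧
      ((∀ n : ℤ, ModSite.IsFlat (K.X n)) → ∀ n : ℤ, ModSite.IsFlat (N.X n)) := by
  obtain ⟨N, b, q, hN, hq, hbq, hfl⟩ :=
    KFlatLib.factor_through_kFlat (flatCover O) flatObj_flatCover a hK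
  exact ⟨N, b, q, kFlat_iff_isKFlat.1 hN, hq, ⟨Homotopy.ofEq hbq.symm⟩, hfl⟩

/-- A flat module in one degree is K-flat. -/
theorem isKFlat_single (M : ModSite.Mod O) (h : ModSite.IsFlat M) (j : ℤ) :
    ModSite.IsKFlat ((CochainComplex.singleFunctor (ModSite.Mod O) j).obj M) :=
  KFlatLib.kFlat_single M j ((isFlat_iff_flatObj M).1 h)

/-- An acyclic K-flat complex stays acyclic after tensoring with any complex. -/
theorem acyclic_tensor_of_acyclic_isKFlat {K : CochainComplex (ModSite.Mod O) ℤ} (hac : K.Acyclic)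
    (hK : ModSite.IsKFlat K) (L : CochainComplex (ModSite.Mod O) ℤ) :
    (((ModSite.tensorCx O).obj L).obj K).Acyclic := by
  let P := (flatCover O).P.obj L
  let ψ := (flatCover O).ψ.app L
  have : QuasiIso ψ := (flatCover O).quasiIso_ψ L
  have hP : KFlatLib.KFlat (ModSite.tensorBi O) P := (flatCover O).kFlat_P flatObj_flatCover L
  have h1 : (((ModSite.tensorCx O).obj P).obj K).Acyclic := by
    have h := hP.acyclic hac
    rw [KFlatLib.acyclic_iff_isZero] at h ⊢
    exact fun i => (h i).of_iso ((HomologicalComplex.homologyFunctor (ModSite.Mod O) _ i).mapIso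
      ((KFlatLib.symmIso (tensorFlipIso O) P).app K)).symm
  have h2 : QuasiIso (((ModSite.tensorCx O).map ψ).app K) := KFlatLib.KFlat.quasiIso_map hK ψ
  rw [KFlatLib.acyclic_iff_isZero] at h1 ⊢
  exact fun i => (h1 i).of_iso (@isoOfQuasiIsoAt _ _ _ _ _ _ _ (((ModSite.tensorCx O).map ψ).app K) i _ _
    (h2.quasiIsoAt i)).symm

/-- The cycles of an acyclic K-flat complex of flat modules are flat. -/
theorem isFlat_cycles {K : CochainComplex (ModSite.Mod O) ℤ} (hac : K.Acyclic)
    (hK : ModSite.IsKFlat K) (hfl : ∀ i, ModSite.IsFlat (K.X i)) (n : ℤ) :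
    ModSite.IsFlat (K.cycles n) := by
  -- tensoring with a module keeps `K` exact
  have hA : ∀ A : ModSite.Mod O,
      ((((ModSite.tensorBi O).obj A).mapHomologicalComplex (ComplexShape.up ℤ)).obj K).Acyclic := fun A => by
    have h := acyclic_tensor_of_acyclic_isKFlat hac hK
      ((HomologicalComplex.single (ModSite.Mod O) (ComplexShape.up ℤ) 0).obj A)
    rw [KFlatLib.acyclic_iff_isZero] at h ⊢
    exact fun i => (h i).of_iso ((HomologicalComplex.homologyFunctor (ModSite.Mod O) _ i).mapIso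
      ((((KFlatLib.symmIso (tensorFlipIso O) _).app K).symm ≪≫
        (KFlatLib.singleIso (ModSite.tensorBi O) A).app K) ≪≫
          (NatIso.mapHomologicalComplex ((tensorFlipIso O).app A) _).app K)).symm
  exact (isFlat_iff_flatObj _).2 (flatObj_cycles (T := ModSite.tensorBi O) rightExactEnough hac hA
    (fun i => (isFlat_iff_flatObj _).1 (hfl i)) n)

end Groth.Agent.ModTensor
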