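import Groth.Agent.ModTensor.ProjSheaf
import Groth.Agent.ModTensor.KFlat
import Groth.Agent.KFlatLib.TotalMap

/-!
# Restriction preserves K-flat complexes
-/

set_option linter.style.haveILetI false

universe u

open CategoryTheory CategoryTheory.Limits Opposite MonoidalCategory

namespace Groth.Agent.ModTensor

variable {C : Type u} [SmallCategory C] {J : GrothendieckTopology C} {O : Sheaf J CommRingCat.{u}}

lemma unitWhiskerIso_naturality {P P' M M' : P₀ O} (f : P ⟶ P') (g : M ⟶ M') :
    (sh O).map (f ⊗ₘ g) ≫ (unitWhiskerIso P' M').hom =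
      (unitWhiskerIso P M).hom ≫ (sh O).map ((fg O).map ((sh O).map f) ⊗ₘ g) := by
  show (sh O).map (f ⊗ₘ g) ≫ (sh O).map ((shAdj O).unit.app P' ▷ M') =
    (sh O).map ((shAdj O).unit.app P ▷ M) ≫ (sh O).map ((fg O).map ((sh O).map f) ⊗ₘ g)
  rw [← Functor.map_comp, ← Functor.map_comp, ← tensorHom_id, ← tensorHom_id, tensorHom_comp_tensorHom,
    tensorHom_comp_tensorHom, Category.id_comp, Category.comp_id]
  exact congrArg (fun t => (sh O).map (t ⊗ₘ g)) ((shAdj O).unit.naturality f)

variable (O) (U : C)

/-- The projection formula, on objects. -/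
noncomputable def projBiObj (P : ModSite.Mod (O.over U)) (N : ModSite.Mod O) :
    (ModSite.extZero O U).obj (((ModSite.tensorBi (O.over U)).obj P).obj ((ModSite.restr O U).obj N)) ≅
      ((ModSite.tensorBi O).obj ((ModSite.extZero O U).obj P)).obj N :=
  (extZeroShIso O U).app ((fg (O.over U)).obj P ⊗ (resP O.obj U).obj ((fg O).obj N)) ≪≫
    (sh O).mapIso (projIso ((fg (O.over U)).obj P) ((fg O).obj N)) ≪≫
    unitWhiskerIso ((extP O.obj U).obj ((fg (O.over U)).obj P)) ((fg O).obj N) ≪≫
    ((ModSite.tensorBi O).mapIso ((extZeroIso O U).app P).symm).app N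

lemma projBiObj_naturality_left {P P' : ModSite.Mod (O.over U)} (f : P ⟶ P') (N : ModSite.Mod O) :
    (ModSite.extZero O U).map (((ModSite.tensorBi (O.over U)).map f).app ((ModSite.restr O U).obj N)) ≫
        (projBiObj O U P' N).hom =
      (projBiObj O U P N).hom ≫ ((ModSite.tensorBi O).map ((ModSite.extZero O U).map f)).app N := by
  let φ := (fg (O.over U)).map f
  let n := (fg O).obj N
  have h1 : (ModSite.extZero O U).map ((sh (O.over U)).map (φ ▷ (resP O.obj U).obj n)) ≫
      (extZeroShIso O U).hom.app _ = (extZeroShIso O U).hom.app _ ≫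
        (sh O).map ((extP O.obj U).map (φ ▷ (resP O.obj U).obj n)) := (extZeroShIso O U).hom.naturality _
  have h2 : (extP O.obj U).map (φ ▷ (resP O.obj U).obj n) ≫ (projIso _ n).hom =
      (projIso _ n).hom ≫ (extP O.obj U).map φ ▷ n := (projNatIsoRight U n).hom.naturality φ
  have h3 : (sh O).map ((extP O.obj U).map φ ▷ n) ≫ (unitWhiskerIso _ n).hom =
      (unitWhiskerIso _ n).hom ≫ (sh O).map ((fg O).map ((sh O).map ((extP O.obj U).map φ)) ▷ n) := by
    have := unitWhiskerIso_naturality ((extP O.obj U).map φ) (𝟙 n)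
    rw [tensorHom_id, tensorHom_id] at this
    exact this
  have h4 : ((ModSite.tensorBi O).map ((sh O).map ((extP O.obj U).map φ))).app N ≫
      ((ModSite.tensorBi O).map ((extZeroIso O U).inv.app P')).app N =
      ((ModSite.tensorBi O).map ((extZeroIso O U).inv.app P)).app N ≫
        ((ModSite.tensorBi O).map ((ModSite.extZero O U).map f)).app N := by
    rw [← NatTrans.comp_app, ← NatTrans.comp_app, ← Functor.map_comp, ← Functor.map_comp]
    exact congrArg (fun t => ((ModSite.tensorBi O).map t).app N) ((extZeroIso O U).inv.naturality f)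
  exact ((CommSq.mk h1).vert_comp ((CommSq.mk (((sh O).map_comp _ _).symm.trans
    ((congrArg (fun t => (sh O).map t) h2).trans ((sh O).map_comp _ _)))).vert_comp
      ((CommSq.mk h3).vert_comp (CommSq.mk h4)))).w

lemma projBiObj_naturality_right (P : ModSite.Mod (O.over U)) {N N' : ModSite.Mod O} (g : N ⟶ N') :
    (ModSite.extZero O U).map (((ModSite.tensorBi (O.over U)).obj P).map ((ModSite.restr O U).map g)) ≫
        (projBiObj O U P N').hom =
      (projBiObj O U P N).hom ≫ ((ModSite.tensorBi O).obj ((ModSite.extZero O U).obj P)).map g := by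
  let p := (fg (O.over U)).obj P
  let ψ := (fg O).map g
  have h1 : (ModSite.extZero O U).map ((sh (O.over U)).map (p ◁ (resP O.obj U).map ψ)) ≫
      (extZeroShIso O U).hom.app _ = (extZeroShIso O U).hom.app _ ≫
        (sh O).map ((extP O.obj U).map (p ◁ (resP O.obj U).map ψ)) := (extZeroShIso O U).hom.naturality _
  have h2 : (extP O.obj U).map (p ◁ (resP O.obj U).map ψ) ≫ (projIso p _).hom =
      (projIso p _).hom ≫ (extP O.obj U).obj p ◁ ψ := (projNatIsoLeft U p).hom.naturality ψ
  have h3 : (sh O).map ((extP O.obj U).obj p ◁ ψ) ≫ (unitWhiskerIso ((extP O.obj U).obj p) _).hom =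
      (unitWhiskerIso ((extP O.obj U).obj p) _).hom ≫
        (sh O).map ((fg O).obj ((sh O).obj ((extP O.obj U).obj p)) ◁ ψ) := by
    have := unitWhiskerIso_naturality (𝟙 ((extP O.obj U).obj p)) ψ
    rw [CategoryTheory.Functor.map_id, CategoryTheory.Functor.map_id, id_tensorHom, id_tensorHom] at this
    exact this
  have h4 : ((ModSite.tensorBi O).obj ((sh O).obj ((extP O.obj U).obj p))).map g ≫
      ((ModSite.tensorBi O).map ((extZeroIso O U).inv.app P)).app N' =
      ((ModSite.tensorBi O).map ((extZeroIso O U).inv.app P)).app N ≫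
        ((ModSite.tensorBi O).obj ((ModSite.extZero O U).obj P)).map g :=
    ((ModSite.tensorBi O).map ((extZeroIso O U).inv.app P)).naturality g
  exact ((CommSq.mk h1).vert_comp ((CommSq.mk (((sh O).map_comp _ _).symm.trans
    ((congrArg (fun t => (sh O).map t) h2).trans ((sh O).map_comp _ _)))).vert_comp
      ((CommSq.mk h3).vert_comp (CommSq.mk h4)))).w

/-- Restriction in the second variable of the tensor product on the slice. -/
noncomputable abbrev restrBi : ModSite.Mod (O.over U) ⥤ ModSite.Mod O ⥤ ModSite.Mod (O.over U) :=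
  ModSite.tensorBi (O.over U) ⋙ (Functor.whiskeringLeft _ _ _).obj (ModSite.restr O U)

/-- The projection formula, as an isomorphism of bifunctors. -/
noncomputable def projBiIso :
    restrBi O U ⋙ (Functor.whiskeringRight _ _ _).obj (ModSite.extZero O U) ≅
      ModSite.extZero O U ⋙ ModSite.tensorBi O ⋙
        (Functor.whiskeringLeft _ _ (ModSite.Mod O)).obj (𝟭 (ModSite.Mod O)) :=
  NatIso.ofComponents (fun P => NatIso.ofComponents (fun N => projBiObj O U P N)
    (fun g => projBiObj_naturality_right O U P g))
    (fun f => NatTrans.ext (funext fun N => projBiObj_naturality_left O U f N))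

variable {O U}

theorem acyclic_extZero_iff [(ModSite.extZero O U).PreservesZeroMorphisms]
    (L : CochainComplex (ModSite.Mod (O.over U)) ℤ) :
    (∀ i, IsZero ((((ModSite.extZero O U).mapHomologicalComplex (ComplexShape.up ℤ)).obj L).homology i)) ↔
      ∀ i, IsZero (L.homology i) := by
  have := preservesFiniteLimits_extZero O U
  have := preservesFiniteColimits_extZero O U
  have e : ∀ i, ((((ModSite.extZero O U).mapHomologicalComplex (ComplexShape.up ℤ)).obj L).homology i) ≅
      (ModSite.extZero O U).obj (L.homology i) := fun i => (L.sc i).mapHomologyIso (ModSite.extZero O U)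
  exact ⟨fun h i => isZero_of_isZero_extZero _ ((h i).of_iso (e i).symm),
    fun h i => ((ModSite.extZero O U).map_isZero (h i)).of_iso (e i)⟩

/-- Restriction preserves K-flat complexes. -/
theorem isKFlat_restr {K : CochainComplex (ModSite.Mod O) ℤ} (hK : ModSite.IsKFlat K) (U : C) :
    ModSite.IsKFlat (((ModSite.restr O U).mapHomologicalComplex (ComplexShape.up ℤ)).obj K) := by
  intro L hL
  haveI := additive_extZero O U
  haveI : (ModSite.restr O U).Additive := (ModSite.extZeroAdj O U).right_adjoint_additive
  haveI : (restrBi O U).Additive := inferInstance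
  haveI : ∀ X, ((restrBi O U).obj X).Additive := fun X =>
    inferInstanceAs (ModSite.restr O U ⋙ (ModSite.tensorBi (O.over U)).obj X).Additive
  haveI : PreservesColimitsOfSize.{0, 0} (ModSite.extZero O U) :=
    (ModSite.extZeroAdj O U).leftAdjoint_preservesColimits
  refine (acyclic_extZero_iff _).1 fun i => ?_
  exact (hK _ ((acyclic_extZero_iff L).2 hL) i).of_iso
    ((HomologicalComplex.homologyFunctor (ModSite.Mod O) _ i).mapIso
      (KFlatLib.totalMapIso (projBiIso O U) L K)).symm

end Groth.Agent.ModTensor
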