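import Groth.Agent.ModTensor.Locally
import Groth.Prelude.Def_ModSite
import Mathlib.Algebra.Category.ModuleCat.Sheaf.Localization

/-!
# Tensor products of sheaves of modules
-/

universe u

open CategoryTheory CategoryTheory.Limits Opposite MonoidalCategory

namespace Groth.Agent.ModTensor

variable {C : Type u} [SmallCategory C] {J : GrothendieckTopology C} (O : Sheaf J CommRingCat.{u})

/-- Presheaves of modules under sheaves of modules. -/
abbrev P₀ := PM O.obj

/-- Sheafification. -/
noncomputable abbrev sh : P₀ O ⥤ ModSite.Mod O := ModSite.sheafify O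

/-- The underlying presheaf of modules. -/
noncomputable abbrev fg : ModSite.Mod O ⥤ P₀ O := SheafOfModules.forget (ModSite.ringSh O)

/-- Sheafification is left adjoint to the forgetful functor. -/
noncomputable def shAdj : sh O ⊣ fg O :=
  (PresheafOfModules.sheafificationAdjunction (𝟙 (ModSite.ringSh O).obj)).ofNatIsoRight
    (Iso.refl _ : SheafOfModules.forget (ModSite.ringSh O) ⋙
      PresheafOfModules.restrictScalars (𝟙 (ModSite.ringSh O).obj) ≅ fg O)

instance : (fg O).Full := (SheafOfModules.fullyFaithfulForget (ModSite.ringSh O)).full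

instance : (fg O).Faithful := (SheafOfModules.fullyFaithfulForget (ModSite.ringSh O)).faithful

instance (N : ModSite.Mod O) : IsIso ((shAdj O).counit.app N) := by
  have : IsIso (shAdj O).counit := (shAdj O).counit_isIso_of_R_fully_faithful
  infer_instance

/-- `sh (N) ≅ N` for sheaves. -/
noncomputable def counitIso : fg O ⋙ sh O ≅ 𝟭 (ModSite.Mod O) :=
  have : IsIso (shAdj O).counit := (shAdj O).counit_isIso_of_R_fully_faithful
  asIso (shAdj O).counit

variable {O}

lemma toPresheaf_map_unit (P : P₀ O) :
    (PresheafOfModules.toPresheaf _).map ((shAdj O).unit.app P) =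
      CategoryTheory.toSheafify J P.presheaf := rfl

instance isLocallyInjective_unit (P : P₀ O) :
    Presheaf.IsLocallyInjective J ((PresheafOfModules.toPresheaf _).map ((shAdj O).unit.app P)) := by
  rw [toPresheaf_map_unit]
  exact (J.W_toSheafify (A := AddCommGrpCat.{u}) P.presheaf).isLocallyInjective

instance isLocallySurjective_unit (P : P₀ O) :
    Presheaf.IsLocallySurjective J ((PresheafOfModules.toPresheaf _).map ((shAdj O).unit.app P)) := by
  rw [toPresheaf_map_unit]
  exact (J.W_toSheafify (A := AddCommGrpCat.{u}) P.presheaf).isLocallySurjective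

/-- Tensoring on the right inverts local bijections after sheafification. -/
theorem isIso_sh_map_whiskerRight {P Q : P₀ O} (f : P ⟶ Q) (M : P₀ O)
    [Presheaf.IsLocallyInjective J ((PresheafOfModules.toPresheaf _).map f)]
    [Presheaf.IsLocallySurjective J ((PresheafOfModules.toPresheaf _).map f)] :
    IsIso ((sh O).map (f ▷ M)) := by
  refine (isIso_iff_coyoneda_map_bijective _).2 fun N => ?_
  have h := bijective_whiskerRight_comp (J := J) (H := (fg O).obj N) (M := M) N.isSheaf f
  have e : (fun φ : (sh O).obj (Q ⊗ M) ⟶ N => (sh O).map (f ▷ M) ≫ φ) =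
      ((shAdj O).homEquiv _ N).symm ∘ (fun φ => f ▷ M ≫ φ) ∘ (shAdj O).homEquiv _ N :=
    funext fun φ => ((shAdj O).homEquiv _ N).injective (by
      simp [Adjunction.homEquiv_naturality_left])
  rw [e]
  exact (Equiv.bijective _).comp (h.comp (Equiv.bijective _))

theorem isIso_sh_map_whiskerLeft (M : P₀ O) {P Q : P₀ O} (f : P ⟶ Q)
    [Presheaf.IsLocallyInjective J ((PresheafOfModules.toPresheaf _).map f)]
    [Presheaf.IsLocallySurjective J ((PresheafOfModules.toPresheaf _).map f)] :
    IsIso ((sh O).map (M ◁ f)) := by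
  have h : M ◁ f = (β_ M P).hom ≫ f ▷ M ≫ (β_ M Q).inv := by
    rw [← BraidedCategory.braiding_naturality_right_assoc, Iso.hom_inv_id, Category.comp_id]
  have := isIso_sh_map_whiskerRight f M
  rw [h, Functor.map_comp, Functor.map_comp]
  infer_instance

instance isIso_sh_map_unit_whiskerRight (P M : P₀ O) :
    IsIso ((sh O).map ((shAdj O).unit.app P ▷ M)) :=
  isIso_sh_map_whiskerRight _ M

instance isIso_sh_map_whiskerLeft_unit (M P : P₀ O) :
    IsIso ((sh O).map (M ◁ (shAdj O).unit.app P)) :=
  isIso_sh_map_whiskerLeft M _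

/-- The unit induces an isomorphism after tensoring and sheafification. -/
noncomputable def unitWhiskerIso (P M : P₀ O) :
    (sh O).obj (P ⊗ M) ≅ (sh O).obj ((fg O).obj ((sh O).obj P) ⊗ M) :=
  @asIso _ _ _ _ ((sh O).map ((shAdj O).unit.app P ▷ M)) (isIso_sh_map_unit_whiskerRight P M)

/-- Tensoring with a sheaf commutes with sheafification. -/
noncomputable def shTensorRightIso (N : ModSite.Mod O) :
    sh O ⋙ (ModSite.tensorBi O).flip.obj N ≅ tensorRight ((fg O).obj N) ⋙ sh O :=
  Iso.symm <| NatIso.ofComponents (fun P => unitWhiskerIso P ((fg O).obj N)) fun {P Q} g => by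
    show (sh O).map (g ▷ (fg O).obj N) ≫ (sh O).map ((shAdj O).unit.app Q ▷ (fg O).obj N) =
      (sh O).map ((shAdj O).unit.app P ▷ (fg O).obj N) ≫
        (sh O).map ((fg O).map ((sh O).map g) ▷ (fg O).obj N)
    rw [← Functor.map_comp, ← Functor.map_comp, ← comp_whiskerRight, ← comp_whiskerRight]
    exact congrArg (fun t => (sh O).map (t ▷ (fg O).obj N)) ((shAdj O).unit.naturality g)

/-- Sheafification is monoidal. -/
noncomputable def shTensorIso (P Q : P₀ O) :
    (sh O).obj (P ⊗ Q) ≅ ((ModSite.tensorBi O).obj ((sh O).obj P)).obj ((sh O).obj Q) :=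
  asIso ((sh O).map (P ◁ (shAdj O).unit.app Q)) ≪≫
    unitWhiskerIso P ((fg O).obj ((sh O).obj Q))

end Groth.Agent.ModTensor

namespace Groth.Agent.ModTensor

variable {C : Type u} [SmallCategory C] {J : GrothendieckTopology C} {O : Sheaf J CommRingCat.{u}}

/-- Sheafification inverts the tensor product of the units. -/
theorem isIso_sh_map_tensorHom_unit (P Q : P₀ O) :
    IsIso ((sh O).map ((shAdj O).unit.app P ⊗ₘ (shAdj O).unit.app Q)) := by
  rw [tensorHom_def' (C := P₀ O), Functor.map_comp]
  exact (inferInstance : IsIso (shTensorIso P Q).hom)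

lemma sheafificationAdjunction_unit_app (P : P₀ O) :
    (PresheafOfModules.sheafificationAdjunction (𝟙 (ModSite.ringSh O).obj)).unit.app P =
      (shAdj O).unit.app P := (PresheafOfModules.toPresheaf _).map_injective rfl

end Groth.Agent.ModTensor
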