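import Groth.Agent.ModTensor.Basic
import Mathlib.Algebra.Category.ModuleCat.Sheaf.Colimits
import Mathlib.Algebra.Category.ModuleCat.Monoidal.Closed
import Mathlib.CategoryTheory.Preadditive.AdditiveFunctor
import Mathlib.CategoryTheory.Limits.Preserves.Shapes.Biproducts

/-!
# Tensor products of sheaves of modules commute with colimits
-/

universe w w' u

open CategoryTheory CategoryTheory.Limits Opposite MonoidalCategory

namespace Groth.Agent.ModTensor

variable {C : Type u} [SmallCategory C] {J : GrothendieckTopology C}

instance preservesColimitsOfShape_tensorRight_PM {R : Cᵒᵖ ⥤ CommRingCat.{u}} (M : PM R) (I : Type w)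
    [Category.{w'} I] [∀ X : Cᵒᵖ, HasColimitsOfShape I (ModuleCat.{u} (R.obj X))]
    [HasColimitsOfShape I AddCommGrpCat.{u}]
    [∀ X : Cᵒᵖ, PreservesColimitsOfShape I (tensorRight (C := ModuleCat.{u} (R.obj X)) (M.obj X))] :
    PreservesColimitsOfShape I (tensorRight M) where
  preservesColimit {F} := ⟨fun {c} hc => ⟨PresheafOfModules.evaluationJointlyReflectsColimits _ _ fun X =>
    isColimitOfPreserves (tensorRight (C := ModuleCat.{u} (R.obj X)) (M.obj X))
      (isColimitOfPreserves (PresheafOfModules.evaluation _ X) hc)⟩⟩

instance preservesColimitsOfSize_tensorRight_ModuleCat {R : Type u} [CommRing R] (M : ModuleCat.{u} R) :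
    PreservesColimitsOfSize.{u, u} (tensorRight M) :=
  preservesColimits_of_natIso (BraidedCategory.tensorLeftIsoTensorRight M)

variable (O : Sheaf J CommRingCat.{u})

instance preservesColimitsOfShape_tensorBi_flip (N : ModSite.Mod O) (I : Type u) [SmallCategory I] :
    PreservesColimitsOfShape I ((ModSite.tensorBi O).flip.obj N) where
  preservesColimit {K} := by
    let L := K ⋙ fg O
    have : PreservesColimitsOfShape I (sh O) := (shAdj O).leftAdjoint_preservesColimits.1
    have : PreservesColimitsOfShape I (sh O ⋙ (ModSite.tensorBi O).flip.obj N) :=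
      preservesColimitsOfShape_of_natIso (shTensorRightIso N).symm
    have : PreservesColimit (L ⋙ sh O) ((ModSite.tensorBi O).flip.obj N) :=
      preservesColimit_of_preserves_colimit_cocone (isColimitOfPreserves (sh O) (colimit.isColimit L))
        (isColimitOfPreserves (sh O ⋙ (ModSite.tensorBi O).flip.obj N) (colimit.isColimit L))
    exact preservesColimit_of_iso_diagram ((ModSite.tensorBi O).flip.obj N)
      (K₁ := L ⋙ sh O) (Functor.associator K (fg O) (sh O) ≪≫
        Functor.isoWhiskerLeft K (counitIso O) ≪≫ Functor.rightUnitor K)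

instance preservesColimitsOfSize_tensorBi_flip (N : ModSite.Mod O) :
    PreservesColimitsOfSize.{u, u} ((ModSite.tensorBi O).flip.obj N) where

/-- The commutativity of the tensor product. -/
noncomputable def tensorFlipIso : (ModSite.tensorBi O).flip ≅ ModSite.tensorBi O :=
  NatIso.ofComponents
    (fun N => NatIso.ofComponents
      (fun M => (sh O).mapIso (β_ ((fg O).obj M) ((fg O).obj N)))
      fun {M M'} f => by
        change (sh O).map ((fg O).map f ▷ (fg O).obj N) ≫ (sh O).map (β_ _ _).hom =
          (sh O).map (β_ _ _).hom ≫ (sh O).map ((fg O).obj N ◁ (fg O).map f)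
        rw [← Functor.map_comp, ← Functor.map_comp, BraidedCategory.braiding_naturality_left])
    fun {N N'} g => by
      ext M : 2
      change (sh O).map ((fg O).obj M ◁ (fg O).map g) ≫ (sh O).map (β_ _ _).hom =
        (sh O).map (β_ _ _).hom ≫ (sh O).map ((fg O).map g ▷ (fg O).obj M)
      rw [← Functor.map_comp, ← Functor.map_comp, BraidedCategory.braiding_naturality_right]

instance preservesColimitsOfSize_tensorBi_obj (N : ModSite.Mod O) :
    PreservesColimitsOfSize.{u, u} ((ModSite.tensorBi O).obj N) :=
  preservesColimits_of_natIso ((tensorFlipIso O).app N)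

instance additive_tensorBi_flip (N : ModSite.Mod O) : ((ModSite.tensorBi O).flip.obj N).Additive := by
  have : PreservesColimitsOfSize.{0, 0} ((ModSite.tensorBi O).flip.obj N) :=
    preservesColimitsOfSize_shrink.{0, u, 0, u} _
  have : PreservesFiniteColimits ((ModSite.tensorBi O).flip.obj N) := ⟨fun _ => inferInstance⟩
  have := Functor.preservesZeroMorphisms_of_preserves_initial_object
    (F := (ModSite.tensorBi O).flip.obj N)
  have : PreservesBinaryBiproducts ((ModSite.tensorBi O).flip.obj N) :=
    preservesBinaryBiproducts_of_preservesBinaryCoproducts _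
  exact Functor.additive_of_preservesBinaryBiproducts _

end Groth.Agent.ModTensor
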