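import Mathlib.Algebra.Category.ModuleCat.Presheaf.Monoidal
import Mathlib.Algebra.Category.ModuleCat.Presheaf.Sheafification

/-!
# Maps out of tensor products only depend on presheaves up to local bijections
-/

universe u

open CategoryTheory CategoryTheory.Limits Opposite MonoidalCategory
open scoped TensorProduct

namespace Groth.Agent.ModTensor

variable {C : Type u} [SmallCategory C] {J : GrothendieckTopology C} {R : Cᵒᵖ ⥤ CommRingCat.{u}}

/-- Presheaves of modules over a presheaf of commutative rings. -/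
abbrev PM (R : Cᵒᵖ ⥤ CommRingCat.{u}) := PresheafOfModules.{u} (R ⋙ forget₂ CommRingCat.{u} RingCat.{u})

variable {P Q M H : PM R}

/-- Restriction of sections. -/
noncomputable def rs (P : PM R) {X Y : Cᵒᵖ} (g : X ⟶ Y) (p : P.obj X) : P.obj Y := P.map g p

lemma rs_add {X Y : Cᵒᵖ} (g : X ⟶ Y) (p p' : P.obj X) : rs P g (p + p') = rs P g p + rs P g p' :=
  map_add (P.map g).hom p p'

lemma rs_smul {X Y : Cᵒᵖ} (g : X ⟶ Y) (r : R.obj X) (p : P.obj X) :
    rs P g (r • p) = (R.map g).hom r • rs P g p := P.map_smul g r p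

lemma rs_comp {X Y Z : Cᵒᵖ} (g : X ⟶ Y) (g' : Y ⟶ Z) (p : P.obj X) :
    rs P (g ≫ g') p = rs P g' (rs P g p) := P.map_comp_apply g g' p

lemma rs_id {X : Cᵒᵖ} (p : P.obj X) : rs P (𝟙 X) p = p :=
  (PresheafOfModules.congr_map_apply P rfl p).trans (by rw [P.map_id]; rfl)

lemma app_rs (f : P ⟶ Q) {X Y : Cᵒᵖ} (g : X ⟶ Y) (p : P.obj X) :
    f.app Y (rs P g p) = rs Q g (f.app X p) := PresheafOfModules.naturality_apply f g p

/-- The elementary tensor as a section. -/
noncomputable abbrev tm {X : Cᵒᵖ} (p : P.obj X) (m : M.obj X) : ((P ⊗ M : PM R).obj X) :=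
  p ⊗ₜ[R.obj X] m

lemma rs_tm {X Y : Cᵒᵖ} (g : X ⟶ Y) (p : P.obj X) (m : M.obj X) :
    rs (P ⊗ M : PM R) g (tm p m) = tm (rs P g p) (rs M g m) := rfl

lemma hom_ext_tm {k₁ k₂ : (P ⊗ M : PM R) ⟶ H}
    (h : ∀ (X : Cᵒᵖ) (p : P.obj X) (m : M.obj X), k₁.app X (tm p m) = k₂.app X (tm p m)) : k₁ = k₂ :=
  PresheafOfModules.hom_ext fun X => ModuleCat.MonoidalCategory.tensor_ext fun p m => h X p m

lemma whiskerRight_tm (f : P ⟶ Q) {X : Cᵒᵖ} (p : P.obj X) (m : M.obj X) :
    (f ▷ M).app X (tm p m) = tm (f.app X p) m := rfl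

section

variable (hH : Presheaf.IsSheaf J H.presheaf)

include hH in
lemma eq_of_locally {U : C} {S : Sieve U} (hS : S ∈ J U) {a b : H.obj (op U)}
    (h : ∀ ⦃V : C⦄ (g : V ⟶ U), S g → rs H g.op a = rs H g.op b) : a = b :=
  (((Presheaf.isSheaf_iff_isSheaf_forget J H.presheaf (CategoryTheory.forget Ab.{u})).1 hH).isSheafFor _
    hS).isSeparatedFor.ext fun _ g hg => h g hg

variable (f : P ⟶ Q) (k : (P ⊗ M : PM R) ⟶ H)

/-- Characterisation of the value on `q ⊗ m` of the extension of `k` along `f`. -/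
def IsExt {U : C} (q : Q.obj (op U)) (m : M.obj (op U)) (h : H.obj (op U)) : Prop :=
  ∀ ⦃V : C⦄ (g : V ⟶ U) (p : P.obj (op V)), f.app (op V) p = rs Q g.op q →
    rs H g.op h = k.app (op V) (tm p (rs M g.op m))

/-- Lifts of a section exist locally. -/
lemma exists_lifts [Presheaf.IsLocallySurjective J ((PresheafOfModules.toPresheaf _).map f)]
    {U : C} (q : Q.obj (op U)) :
    ∃ S ∈ J U, ∀ ⦃V : C⦄ (g : V ⟶ U), S g → ∃ p : P.obj (op V), f.app (op V) p = rs Q g.op q :=
  ⟨Presheaf.imageSieve ((PresheafOfModules.toPresheaf _).map f) (U := U) q,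
    Presheaf.imageSieve_mem J ((PresheafOfModules.toPresheaf _).map f) (U := op U) q,
    fun _ _ hg => ⟨hg.choose, hg.choose_spec⟩⟩

include hH in
lemma app_tm_eq_of_app_eq [Presheaf.IsLocallyInjective J ((PresheafOfModules.toPresheaf _).map f)]
    {U : C} (p p' : P.obj (op U)) (m : M.obj (op U)) (e : f.app (op U) p = f.app (op U) p') :
    k.app (op U) (tm p m) = k.app (op U) (tm p' m) := by
  refine eq_of_locally hH
    (Presheaf.equalizerSieve_mem J ((PresheafOfModules.toPresheaf _).map f) (X := op U) p p' e) ?_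
  intro V g hg
  rw [← app_rs, ← app_rs, rs_tm, rs_tm, show rs P g.op p = rs P g.op p' from hg]

variable [Presheaf.IsLocallyInjective J ((PresheafOfModules.toPresheaf _).map f)]
  [Presheaf.IsLocallySurjective J ((PresheafOfModules.toPresheaf _).map f)]

include hH in
lemma existsUnique_isExt {U : C} (q : Q.obj (op U)) (m : M.obj (op U)) :
    ∃! h : H.obj (op U), IsExt f k q m h := by
  obtain ⟨S, hS, hlift⟩ := exists_lifts (J := J) f q
  have hsh := ((Presheaf.isSheaf_iff_isSheaf_forget J H.presheaf (CategoryTheory.forget Ab.{u})).1 hH).isSheafFor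
    _ hS
  choose pl hpl using hlift
  let x : Presieve.FamilyOfElements (H.presheaf ⋙ CategoryTheory.forget Ab.{u}) S.arrows := fun V g hg =>
    k.app (op V) (tm (pl g hg) (rs M g.op m))
  have key : ∀ ⦃V : C⦄ (g : V ⟶ U) (hg : S g) ⦃W : C⦄ (i : W ⟶ V) (p : P.obj (op W)),
      f.app (op W) p = rs Q (i ≫ g).op q → rs H i.op (k.app (op V) (tm (pl g hg) (rs M g.op m))) =
        k.app (op W) (tm p (rs M (i ≫ g).op m)) := by
    intro V g hg W i p hp
    rw [← app_rs, rs_tm, op_comp, rs_comp]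
    refine app_tm_eq_of_app_eq hH f k _ _ _ ?_
    rw [hp, app_rs, hpl, op_comp, rs_comp]
  have hx : x.Compatible := by
    intro Y₁ Y₂ Z g₁ g₂ f₁ f₂ h₁ h₂ e
    show rs H g₁.op (k.app _ (tm (pl f₁ h₁) _)) = rs H g₂.op (k.app _ (tm (pl f₂ h₂) _))
    have hp : f.app (op Z) (rs P g₁.op (pl f₁ h₁)) = rs Q (g₁ ≫ f₁).op q := by
      rw [app_rs, hpl, op_comp, rs_comp]
    rw [key f₁ h₁ g₁ _ hp, key f₂ h₂ g₂ _ (e ▸ hp), e]
  refine ⟨hsh.amalgamate x hx, fun V g p hp => ?_, fun h' hh' => ?_⟩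
  · refine eq_of_locally hH (J.pullback_stable g hS) fun W i hi => ?_
    rw [← app_rs, rs_tm, ← rs_comp, ← op_comp]
    refine (hsh.valid_glue hx (i ≫ g) hi).trans ?_
    have hp' : f.app (op W) (rs P i.op p) = rs Q (i ≫ g).op q := by
      rw [app_rs, hp, op_comp, rs_comp]
    have := key (i ≫ g) hi (𝟙 W) (rs P i.op p) (by rw [Category.id_comp]; exact hp')
    rw [Category.id_comp, op_id, rs_id] at this
    rw [← rs_comp, ← op_comp]
    exact this
  · refine eq_of_locally hH hS fun V g hg => ?_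
    exact (hh' g _ (hpl g hg)).trans (hsh.valid_glue hx g hg).symm

/-- The value on `q ⊗ m` of the extension of `k` along `f`. -/
noncomputable def extFun {X : Cᵒᵖ} (q : Q.obj X) (m : M.obj X) : H.obj X :=
  (existsUnique_isExt hH f k (U := X.unop) q m).choose

lemma isExt_extFun {U : C} (q : Q.obj (op U)) (m : M.obj (op U)) :
    IsExt f k q m (extFun hH f k q m) :=
  (existsUnique_isExt hH f k q m).choose_spec.1

lemma extFun_map {X Y : Cᵒᵖ} (g : X ⟶ Y) (q : Q.obj X) (m : M.obj X) :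
    rs H g (extFun hH f k q m) = extFun hH f k (rs Q g q) (rs M g m) := by
  refine (existsUnique_isExt hH f k (U := Y.unop) (rs Q g q) (rs M g m)).unique ?_
    (isExt_extFun hH f k _ _)
  intro V i p hp
  rw [← rs_comp, ← rs_comp]
  exact isExt_extFun hH f k (U := X.unop) q m (i ≫ g.unop) p (hp.trans (rs_comp g i.op q).symm)

lemma extFun_add_left {X : Cᵒᵖ} (q q' : Q.obj X) (m : M.obj X) :
    extFun hH f k (q + q') m = extFun hH f k q m + extFun hH f k q' m := by
  obtain ⟨S, hS, hl⟩ := exists_lifts (J := J) f (U := X.unop) q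
  obtain ⟨S', hS', hl'⟩ := exists_lifts (J := J) f (U := X.unop) q'
  refine eq_of_locally hH (U := X.unop) (J.intersection_covering hS hS') fun V g hg => ?_
  obtain ⟨p, hp⟩ := hl g hg.1
  obtain ⟨p', hp'⟩ := hl' g hg.2
  rw [rs_add, isExt_extFun hH f k (U := X.unop) q m g p hp, isExt_extFun hH f k (U := X.unop) q' m g p' hp',
    isExt_extFun hH f k (U := X.unop) (q + q') m g (p + p')
      ((map_add (f.app (op V)).hom p p').trans ((congrArg₂ (· + ·) hp hp').trans (rs_add _ _ _).symm))]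
  exact (congrArg (k.app (op V)).hom (TensorProduct.add_tmul (R := R.obj (op V)) p p' _)).trans
    (map_add (k.app (op V)).hom _ _)

lemma extFun_smul_left {X : Cᵒᵖ} (r : R.obj X) (q : Q.obj X) (m : M.obj X) :
    extFun hH f k (r • q) m = r • extFun hH f k q m := by
  obtain ⟨S, hS, hl⟩ := exists_lifts (J := J) f (U := X.unop) q
  refine eq_of_locally hH (U := X.unop) hS fun V g hg => ?_
  obtain ⟨p, hp⟩ := hl g hg
  rw [rs_smul, isExt_extFun hH f k (U := X.unop) q m g p hp,
    isExt_extFun hH f k (U := X.unop) (r • q) m g ((R.map g.op).hom r • p : P.obj (op V))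
      ((map_smul (f.app (op V)).hom _ p).trans ((congrArg _ hp).trans (rs_smul _ r q).symm))]
  exact (map_smul (k.app (op V)).hom _ (tm p (rs M g.op m)))

lemma extFun_add_right {X : Cᵒᵖ} (q : Q.obj X) (m m' : M.obj X) :
    extFun hH f k q (m + m') = extFun hH f k q m + extFun hH f k q m' := by
  obtain ⟨S, hS, hl⟩ := exists_lifts (J := J) f (U := X.unop) q
  refine eq_of_locally hH (U := X.unop) hS fun V g hg => ?_
  obtain ⟨p, hp⟩ := hl g hg
  rw [rs_add, isExt_extFun hH f k (U := X.unop) q m g p hp, isExt_extFun hH f k (U := X.unop) q m' g p hp,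
    isExt_extFun hH f k (U := X.unop) q (m + m') g p hp, rs_add]
  exact (congrArg (k.app (op V)).hom (TensorProduct.tmul_add (R := R.obj (op V)) p _ _)).trans
    (map_add (k.app (op V)).hom _ _)

lemma extFun_smul_right {X : Cᵒᵖ} (r : R.obj X) (q : Q.obj X) (m : M.obj X) :
    extFun hH f k q (r • m) = r • extFun hH f k q m := by
  obtain ⟨S, hS, hl⟩ := exists_lifts (J := J) f (U := X.unop) q
  refine eq_of_locally hH (U := X.unop) hS fun V g hg => ?_
  obtain ⟨p, hp⟩ := hl g hg
  rw [rs_smul, isExt_extFun hH f k (U := X.unop) q m g p hp,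
    isExt_extFun hH f k (U := X.unop) q (r • m) g p hp, rs_smul]
  exact (congrArg (k.app (op V)).hom (TensorProduct.tmul_smul (R := R.obj (op V)) ((R.map g.op).hom r) p _)).trans
    (map_smul (k.app (op V)).hom _ _)

/-- The extension of `k` along `f`. -/
noncomputable def extend : (Q ⊗ M : PM R) ⟶ H where
  app X := ModuleCat.MonoidalCategory.tensorLift (R := R.obj X) (fun q m => extFun hH f k q m)
    (fun _ _ _ => extFun_add_left hH f k _ _ _) (fun _ _ _ => extFun_smul_left hH f k _ _ _)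
    (fun _ _ _ => extFun_add_right hH f k _ _ _) (fun _ _ _ => extFun_smul_right hH f k _ _ _)
  naturality {X Y} g := ModuleCat.MonoidalCategory.tensor_ext fun q m => (extFun_map hH f k g q m).symm

lemma whiskerRight_comp_extend : f ▷ M ≫ extend hH f k = k := by
  refine hom_ext_tm fun X p m => ?_
  show extFun hH f k (f.app X p) m = k.app X (tm p m)
  have := isExt_extFun hH f k (U := X.unop) (f.app X p) m (𝟙 _) p (by rw [op_id, rs_id])
  rw [op_id, rs_id, rs_id] at this
  exact this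

include hH in
/-- Maps out of a tensor product into a sheaf only depend on the factor up to local bijections. -/
theorem bijective_whiskerRight_comp :
    Function.Bijective fun φ : (Q ⊗ M : PM R) ⟶ H => f ▷ M ≫ φ := by
  refine ⟨fun φ ψ e => ?_, fun k => ⟨extend hH f k, whiskerRight_comp_extend hH f k⟩⟩
  refine hom_ext_tm fun X q m => ?_
  obtain ⟨S, hS, hl⟩ := exists_lifts (J := J) f (U := X.unop) q
  refine eq_of_locally hH (U := X.unop) hS fun V g hg => ?_
  obtain ⟨p, hp⟩ := hl g hg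
  rw [← app_rs, ← app_rs, rs_tm, ← hp]
  exact congrArg (fun t : (P ⊗ M : PM R) ⟶ H => t.app (op V) (tm p (rs M g.op m))) e

end

end Groth.Agent.ModTensor
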