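import Groth.Agent.ModTensor.Flat

/-!
# Flatness for presheaves of modules
-/

universe u

open CategoryTheory CategoryTheory.Limits Opposite MonoidalCategory

namespace Groth.Agent.ModTensor

variable {C : Type u} [SmallCategory C] {R : Cᵒᵖ ⥤ CommRingCat.{u}}

theorem preservesFiniteColimits_tensorRight (M : PM R) : PreservesFiniteColimits (tensorRight M) := by
  refine ⟨fun I _ _ => ?_⟩
  have : ∀ X : Cᵒᵖ, PreservesColimitsOfShape I
      (tensorRight (C := ModuleCat.{u} (R.obj X)) (M.obj X)) := fun X => by
    have : PreservesColimitsOfSize.{0, 0} (tensorRight (C := ModuleCat.{u} (R.obj X)) (M.obj X)) :=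
      preservesColimitsOfSize_shrink.{0, u, 0, u} _
    infer_instance
  exact preservesColimitsOfShape_tensorRight_PM M I

instance additive_curriedTensor_PM : (curriedTensor (PM R)).Additive where
  map_add {P Q f g} := by
    ext N : 2
    · ext1 U
      simp [MonoidalPreadditive.add_whiskerRight]
      try rfl

instance additive_curriedTensor_obj_PM (N : PM R) : ((curriedTensor (PM R)).obj N).Additive where
  map_add {P Q f g} := by
    ext1 U
    simp [MonoidalPreadditive.whiskerLeft_add]
    try rfl

/-- Presheaves of modules have enough sectionwise free objects. -/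
theorem rightExactEnough_pre : RightExactEnough (curriedTensor (PM R)) where
  right X := @preservesFiniteColimits_of_natIso _ _ _ _ _ _
    (BraidedCategory.tensorLeftIsoTensorRight X).symm (preservesFiniteColimits_tensorRight X)
  left Y := preservesFiniteColimits_tensorRight Y
  enough X := by
    let ad := PresheafOfModules.freeAdjunction (R ⋙ forget₂ CommRingCat.{u} RingCat.{u})
    refine ⟨_, ad.counit.app X, PresheafOfModules.epi_of_surjective fun {Y} x => ?_, fun A B f _ => ?_⟩
    · exact ⟨_, ConcreteCategory.congr_hom (congrArg (fun t => NatTrans.app t Y)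
        (ad.right_triangle_components X)) x⟩
    · let P := (PresheafOfModules.free (R ⋙ forget₂ CommRingCat.{u} RingCat.{u})).obj
        ((PresheafOfModules.toPresheaf _ ⋙
          (Functor.whiskeringRight _ _ _).obj (CategoryTheory.forget Ab.{u})).obj X)
      have hP : PreservesFiniteLimits (tensorRight P) := preservesFiniteLimits_tensorRight_of_flat P
        fun Y => inferInstanceAs (Module.Flat (R.obj Y) ((X.obj Y : Type u) →₀ R.obj Y))
      have : PreservesFiniteLimits (tensorLeft P) :=
        preservesFiniteLimits_of_natIso (BraidedCategory.tensorLeftIsoTensorRight P).symm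
      exact (tensorLeft P).map_mono f

/-- A sequence with flat third term stays exact after tensoring. -/
theorem shortExact_tensorRight {S : ShortComplex (PM R)} (hS : S.ShortExact)
    (hl : PreservesFiniteLimits (tensorRight S.X₃)) (G : PM R)
    [(tensorRight G).PreservesZeroMorphisms] : (S.map (tensorRight G)).ShortExact := by
  have hflat : KFlatLib.FlatObj (curriedTensor (PM R)) S.X₃ :=
    (flatObj_iff_mono rightExactEnough_pre _).2 fun A B f _ => (tensorRight S.X₃).map_mono f
  exact ShortComplex.shortExact_of_iso (S.mapNatIso (BraidedCategory.tensorLeftIsoTensorRight G))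
    (flatThird rightExactEnough_pre G S hS hflat)

end Groth.Agent.ModTensor
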