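import Groth.Agent.ModTensor.OverSum
import Mathlib.LinearAlgebra.TensorProduct.Tower

/-!
# The projection formula for extension by zero of presheaves of modules
-/

universe u

open CategoryTheory CategoryTheory.Limits Opposite MonoidalCategory
open scoped DirectSum TensorProduct

namespace Groth.Agent.ModTensor

variable {C : Type u} [SmallCategory C] {R : Cᵒᵖ ⥤ CommRingCat.{u}} {U : C}

/-- A section as a section of the restriction. -/
noncomputable def toRes (M : PM R) (Z : Over U) (m : M.obj (op Z.left)) : sec ((resP R U).obj M) Z := m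

lemma toRes_add (M : PM R) (Z : Over U) (m m' : M.obj (op Z.left)) :
    toRes M Z (m + m') = toRes M Z m + toRes M Z m' := rfl

lemma toRes_smul (M : PM R) (Z : Over U) (r : R.obj (op Z.left)) (m : M.obj (op Z.left)) :
    toRes M Z (r • m) = r • toRes M Z m := rfl

lemma rsO_toRes (M : PM R) {Z Z' : Over U} (h : Z' ⟶ Z) (m : M.obj (op Z.left)) :
    rsO ((resP R U).obj M) h (toRes M Z m) = toRes M Z' (rs M h.left.op m) := rfl

/-- The elementary tensor on the slice. -/
noncomputable abbrev tmO {Q : PU R U} {P : PU R U} (Z : Over U) (x : sec Q Z) (y : sec P Z) :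
    sec (Q ⊗ P : PU R U) Z := tm (R := (Over.forget U).op ⋙ R) (X := op Z) x y

lemma rsO_tmO {Q P : PU R U} {Z Z' : Over U} (h : Z' ⟶ Z) (x : sec Q Z) (y : sec P Z) :
    rsO (Q ⊗ P : PU R U) h (tmO Z x y) = tmO Z' (rsO Q h x) (rsO P h y) := rfl

variable (Q : PU R U) (M : PM R)

/-- The tensor product on the slice. -/
noncomputable abbrev tens : PU R U := Q ⊗ (resP R U).obj M

lemma tm_add_left {X : Cᵒᵖ} {A B : PM R} (a a' : A.obj X) (b : B.obj X) :
    tm (a + a') b = tm a b + tm a' b := TensorProduct.add_tmul _ _ _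

lemma tm_add_right {X : Cᵒᵖ} {A B : PM R} (a : A.obj X) (b b' : B.obj X) :
    tm a (b + b') = tm a b + tm a b' := TensorProduct.tmul_add _ _ _

lemma tm_smul_left {X : Cᵒᵖ} {A B : PM R} (r : R.obj X) (a : A.obj X) (b : B.obj X) :
    tm (r • a) b = r • tm a b := rfl

lemma tm_smul_right {X : Cᵒᵖ} {A B : PM R} (r : R.obj X) (a : A.obj X) (b : B.obj X) :
    tm a (r • b) = r • tm a b := TensorProduct.tmul_smul (R := R.obj X) r a b

lemma tmO_add_left (Z : Over U) (x x' : sec Q Z) (y : sec ((resP R U).obj M) Z) :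
    tmO Z (x + x') y = tmO Z x y + tmO Z x' y :=
  tm_add_left (R := (Over.forget U).op ⋙ R) (X := op Z) (A := Q) (B := (resP R U).obj M) x x' y

lemma tmO_add_right (Z : Over U) (x : sec Q Z) (y y' : sec ((resP R U).obj M) Z) :
    tmO Z x (y + y') = tmO Z x y + tmO Z x y' :=
  tm_add_right (R := (Over.forget U).op ⋙ R) (X := op Z) (A := Q) (B := (resP R U).obj M) x y y'

lemma tmO_smul_left (Z : Over U) (r : R.obj (op Z.left)) (x : sec Q Z) (y : sec ((resP R U).obj M) Z) :
    tmO Z (r • x) y = r • tmO Z x y :=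
  tm_smul_left (R := (Over.forget U).op ⋙ R) (X := op Z) (A := Q) (B := (resP R U).obj M) r x y

lemma tmO_smul_right (Z : Over U) (r : R.obj (op Z.left)) (x : sec Q Z) (y : sec ((resP R U).obj M) Z) :
    tmO Z x (r • y) = r • tmO Z x y :=
  tm_smul_right (R := (Over.forget U).op ⋙ R) (X := op Z) (A := Q) (B := (resP R U).obj M) r x y

/-- The bilinear map underlying the comparison. -/
noncomputable def resBil (A B : PM R) (Z : Over U) :
    A.obj (op Z.left) →ₗ[R.obj (op Z.left)] B.obj (op Z.left) →ₗ[R.obj (op Z.left)]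
      (A ⊗ B : PM R).obj (op Z.left) :=
  TensorProduct.mk _ _ _

/-- Tensor products commute with restriction to the slice, one way. -/
noncomputable def resTensor (A B : PM R) :
    ((resP R U).obj A ⊗ (resP R U).obj B : PU R U) ⟶ (resP R U).obj (A ⊗ B) where
  app Z := ModuleCat.MonoidalCategory.tensorLift (R := ((Over.forget U).op ⋙ R).obj Z)
    (fun a b => toRes (A ⊗ B) Z.unop (resBil A B Z.unop a b))
    (fun a a' b => LinearMap.map_add₂ (resBil A B Z.unop) a a' b)
    (fun r a b => LinearMap.map_smul₂ (resBil A B Z.unop) r a b)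
    (fun a b b' => map_add (resBil A B Z.unop a) b b')
    (fun r a b => (resBil A B Z.unop a).map_smul r b)
  naturality {Z Z'} g := ModuleCat.MonoidalCategory.tensor_ext fun a b => rfl

lemma resTensor_tmO (A B : PM R) (Z : Over U) (a : A.obj (op Z.left)) (b : B.obj (op Z.left)) :
    (resTensor A B).app (op Z) (tmO Z (toRes A Z a) (toRes B Z b)) = toRes (A ⊗ B) Z (tm a b) := rfl

/-- The comparison map of the projection formula. -/
noncomputable def projHom : extObj (tens Q M) ⟶ (extObj Q ⊗ M : PM R) :=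
  extDesc (extUnit Q ▷ (resP R U).obj M ≫ resTensor (extObj Q) M)

lemma appO_projHom (Z : Over U) (x : sec Q Z) (m : M.obj (op Z.left)) :
    appO (extUnit Q ▷ (resP R U).obj M ≫ resTensor (extObj Q) M) Z (tmO Z x (toRes M Z m)) =
      tm (inclO Q (V := op Z.left) Z (𝟙 Z.left) x) m := rfl

lemma projHom_inclO {V : Cᵒᵖ} (Z : Over U) (α : V.unop ⟶ Z.left) (x : sec Q Z) (m : M.obj (op Z.left)) :
    (projHom Q M).app V (inclO (tens Q M) Z α (tmO Z x (toRes M Z m))) =
      tm (inclO Q Z α x) (rs M α.op m) := by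
  refine (extDesc_inclO _ Z α _).trans ?_
  rw [appO_projHom, rs_tm, rs_inclO_id]

/-- The inverse on a summand. -/
noncomputable def invSummand (V : Cᵒᵖ) (φ : V.unop ⟶ U) :
    smd Q φ →ₗ[R.obj V] M.obj V →ₗ[R.obj V] extSec (tens Q M) V :=
  LinearMap.mk₂ (R.obj V)
    (fun x m => inclBase (tens Q M) φ (tmO (Over.mk φ) x (toRes M (Over.mk φ) m)))
    (fun x x' m => (congrArg (inclBase (tens Q M) φ) (tmO_add_left Q M _ x x' _)).trans (map_add _ _ _))
    (fun r x m => (congrArg (inclBase (tens Q M) φ) (tmO_smul_left Q M _ r x _)).trans (map_smul _ _ _))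
    (fun x m m' => (congrArg (inclBase (tens Q M) φ) (tmO_add_right Q M (Over.mk φ) x
      (toRes M (Over.mk φ) m) (toRes M (Over.mk φ) m'))).trans (map_add _ _ _))
    (fun r x m => (congrArg (inclBase (tens Q M) φ) (tmO_smul_right Q M (Over.mk φ) r x
      (toRes M (Over.mk φ) m))).trans (map_smul _ _ _))

/-- The inverse, as a bilinear map. -/
noncomputable def invBil (V : Cᵒᵖ) :
    extSec Q V →ₗ[R.obj V] M.obj V →ₗ[R.obj V] extSec (tens Q M) V :=
  open Classical in
  DirectSum.toModule (R.obj V) _ _ (invSummand Q M V)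

lemma invBil_incl {V : Cᵒᵖ} (Z : Over U) (α : V.unop ⟶ Z.left) (x : sec Q Z) (m : M.obj V) :
    invBil Q M V (incl Q Z α x) m = inclBase (tens Q M) (α ≫ Z.hom)
      (tmO (Over.mk (α ≫ Z.hom)) (rsO Q (Over.homMk α rfl : Over.mk (α ≫ Z.hom) ⟶ Z) x)
        (toRes M (Over.mk (α ≫ Z.hom)) m)) := by
  classical
  exact LinearMap.congr_fun (DirectSum.toModule_lof (R.obj V) (φ := invSummand Q M V) (α ≫ Z.hom) _) m

unseal extObj inclO in
lemma extObj_addHom_ext {V : Cᵒᵖ} {N : Type*} [AddCommGroup N] {f g : ((extObj Q).obj V : Type u) →+ N}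
    (h : ∀ (Z : Over U) (α : V.unop ⟶ Z.left) (x : sec Q Z), f (inclO Q Z α x) = g (inclO Q Z α x)) :
    f = g :=
  extSec_hom_ext Q h

unseal extObj inclO in
/-- The inverse of the comparison map on sections. -/
noncomputable def invApp (V : Cᵒᵖ) : (extObj Q ⊗ M : PM R).obj V ⟶ (extObj (tens Q M)).obj V :=
  ModuleCat.ofHom (TensorProduct.lift (invBil Q M V))

unseal extObj inclO in
lemma invApp_tm_inclO {V : Cᵒᵖ} (Z : Over U) (α : V.unop ⟶ Z.left) (x : sec Q Z) (m : M.obj V) :
    invApp Q M V (tm (inclO Q Z α x) m) =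
      inclO (tens Q M) (Over.mk (α ≫ Z.hom)) (𝟙 V.unop)
        (tmO (Over.mk (α ≫ Z.hom)) (rsO Q (Over.homMk α rfl : Over.mk (α ≫ Z.hom) ⟶ Z) x)
          (toRes M (Over.mk (α ≫ Z.hom)) m)) :=
  ((TensorProduct.lift.tmul (f' := invBil Q M V) (incl Q Z α x) m).trans (invBil_incl Q M Z α x m)).trans
    (inclBase_eq_incl (tens Q M) (α ≫ Z.hom) _)

lemma invApp_projHom (V : Cᵒᵖ) : (projHom Q M).app V ≫ invApp Q M V = 𝟙 _ := by
  refine ModuleCat.hom_ext (LinearMap.ext fun s => ?_)
  refine DFunLike.congr_fun (extObj_addHom_ext (tens Q M)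
    (f := ((projHom Q M).app V ≫ invApp Q M V).hom.toAddMonoidHom) (g := AddMonoidHom.id _)
    fun Z α t => ?_) s
  show invApp Q M V ((projHom Q M).app V (inclO (tens Q M) Z α t)) = inclO (tens Q M) Z α t
  induction t using TensorProduct.induction_on with
  | zero =>
    have h0 : inclO (tens Q M) Z α 0 = 0 := inclO_zero (tens Q M) Z α
    exact (congrArg (fun z => invApp Q M V ((projHom Q M).app V z)) h0).trans
      (((congrArg (invApp Q M V).hom (map_zero ((projHom Q M).app V).hom)).trans (map_zero _)).trans h0.symm)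
  | tmul x m =>
    refine (congrArg (invApp Q M V) (projHom_inclO Q M Z α x m)).trans ?_
    rw [invApp_tm_inclO]
    have e : rsO (tens Q M) (Over.homMk α rfl : Over.mk (α ≫ Z.hom) ⟶ Z) (tmO Z x (toRes M Z m)) =
        tmO (Over.mk (α ≫ Z.hom)) (rsO Q (Over.homMk α rfl : Over.mk (α ≫ Z.hom) ⟶ Z) x)
          (toRes M (Over.mk (α ≫ Z.hom)) (rs M α.op m)) := rfl
    rw [← e]
    refine (inclO_rsO (tens Q M) (Over.homMk α rfl : Over.mk (α ≫ Z.hom) ⟶ Z) (𝟙 V.unop) _).trans ?_
    exact congrArg (fun t => inclO (tens Q M) Z t _) (Category.id_comp α)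
  | add a b ha hb =>
    have hadd : inclO (tens Q M) Z α (a + b) = inclO (tens Q M) Z α a + inclO (tens Q M) Z α b :=
      inclO_add (tens Q M) Z α a b
    refine (congrArg (fun z => invApp Q M V ((projHom Q M).app V z)) hadd).trans ?_
    refine ((congrArg (invApp Q M V).hom (map_add ((projHom Q M).app V).hom _ _)).trans (map_add _ _ _)).trans ?_
    exact (congrArg₂ (· + ·) ha hb).trans hadd.symm

lemma projHom_invApp (V : Cᵒᵖ) : invApp Q M V ≫ (projHom Q M).app V = 𝟙 _ := by
  refine ModuleCat.MonoidalCategory.tensor_ext fun s m => ?_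
  refine DFunLike.congr_fun (extObj_addHom_ext Q
    (f := ((invApp Q M V ≫ (projHom Q M).app V).hom.toAddMonoidHom).comp
      ((TensorProduct.mk (R.obj V) _ _).flip m).toAddMonoidHom)
    (g := ((TensorProduct.mk (R.obj V) _ _).flip m).toAddMonoidHom) fun Z α x => ?_) s
  show (projHom Q M).app V (invApp Q M V (tm (inclO Q Z α x) m)) = tm (inclO Q Z α x) m
  rw [invApp_tm_inclO]
  refine (projHom_inclO Q M (Over.mk (α ≫ Z.hom)) (𝟙 V.unop) _ m).trans ?_
  rw [inclO_rsO]
  congr 1
  · exact congrArg (fun t => inclO Q Z t x) (Category.id_comp α)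
  · exact rs_id (P := M) m

/-- The projection formula. -/
noncomputable def projIso : (extP R U).obj (tens Q M) ≅ ((extP R U).obj Q ⊗ M : PM R) :=
  PresheafOfModules.isoMk
    (fun V => ⟨(projHom Q M).app V, invApp Q M V, invApp_projHom Q M V, projHom_invApp Q M V⟩)
    (fun _ _ f => (projHom Q M).naturality f)

variable {Q M}

lemma projIso_hom_naturality {Q' : PU R U} {M' : PM R} (f : Q ⟶ Q') (g : M ⟶ M') :
    (extP R U).map (f ⊗ₘ (resP R U).map g) ≫ (projIso Q' M').hom =
      (projIso Q M).hom ≫ ((extP R U).map f ⊗ₘ g) := by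
  refine extObj_hom_ext fun Z t => ?_
  show (projHom Q' M').app _ (((extP R U).map (f ⊗ₘ (resP R U).map g)).app _ (inclO (tens Q M) (V := op Z.left) Z (𝟙 Z.left) t)) =
    ((extP R U).map f ⊗ₘ g).app _ ((projHom Q M).app _ (inclO (tens Q M) (V := op Z.left) Z (𝟙 Z.left) t))
  let Φ : tens Q M ⟶ tens Q' M' := f ⊗ₘ (resP R U).map g
  induction t using TensorProduct.induction_on with
  | zero =>
    have h0 : inclO (tens Q M) (V := op Z.left) Z (𝟙 Z.left) 0 = 0 := inclO_zero (tens Q M) Z _
    refine (congrArg (fun z => (projHom Q' M').app (op Z.left)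
      ((extDesc (Φ ≫ extUnit _)).app (op Z.left) z)) h0).trans ?_
    refine Eq.trans ?_ (congrArg (fun z => ((extP R U).map f ⊗ₘ g).app (op Z.left)
      ((projHom Q M).app (op Z.left) z)) h0).symm
    refine ((congrArg ((projHom Q' M').app (op Z.left)).hom
      (map_zero ((extDesc (Φ ≫ extUnit _)).app (op Z.left)).hom)).trans (map_zero _)).trans ?_
    exact ((congrArg (((extP R U).map f ⊗ₘ g).app (op Z.left)).hom
      (map_zero ((projHom Q M).app (op Z.left)).hom)).trans (map_zero _)).symm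
  | tmul x m =>
    refine (congrArg ((projHom Q' M').app (op Z.left))
      (extP_map_inclO R U Φ (V := op Z.left) Z (𝟙 Z.left) (tmO Z x (toRes M Z m)))).trans ?_
    refine Eq.trans ?_ (congrArg (((extP R U).map f ⊗ₘ g).app (op Z.left))
      (projHom_inclO Q M (V := op Z.left) Z (𝟙 Z.left) x m)).symm
    refine (projHom_inclO Q' M' (V := op Z.left) Z (𝟙 Z.left) (f.app (op Z) x) (g.app (op Z.left) m)).trans ?_
    show _ = tm ((extDesc (f ≫ extUnit Q')).app (op Z.left) (inclO Q Z (𝟙 Z.left) x))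
      (g.app (op Z.left) (rs M (𝟙 Z.left).op m))
    rw [extP_map_inclO]
    exact congrArg (fun z : M'.obj (op Z.left) => tm (inclO Q' (V := op Z.left) Z (𝟙 Z.left) (f.app (op Z) x)) z)
      (app_rs g (𝟙 Z.left).op m).symm
  | add a b ha hb =>
    have h1 : inclO (tens Q M) (V := op Z.left) Z (𝟙 Z.left) (a + b) =
        inclO (tens Q M) (V := op Z.left) Z (𝟙 Z.left) a +
          inclO (tens Q M) (V := op Z.left) Z (𝟙 Z.left) b := inclO_add (tens Q M) Z _ a b
    refine (congrArg (fun z => (projHom Q' M').app (op Z.left)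
      ((extDesc (Φ ≫ extUnit _)).app (op Z.left) z)) h1).trans ?_
    refine Eq.trans ?_ (congrArg (fun z => ((extP R U).map f ⊗ₘ g).app (op Z.left)
      ((projHom Q M).app (op Z.left) z)) h1).symm
    refine ((congrArg ((projHom Q' M').app (op Z.left)).hom
      (map_add ((extDesc (Φ ≫ extUnit _)).app (op Z.left)).hom _ _)).trans (map_add _ _ _)).trans ?_
    refine Eq.trans ?_ ((congrArg (((extP R U).map f ⊗ₘ g).app (op Z.left)).hom
      (map_add ((projHom Q M).app (op Z.left)).hom _ _)).trans (map_add _ _ _)).symm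
    exact congrArg₂ (· + ·) ha hb

end Groth.Agent.ModTensor
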